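import Mathlib

/-!
Arithmetic behind Hall subgroups of symmetric groups: binomial coefficients without small prime
divisors and the index of a wreath product.
-/

set_option autoImplicit false

open scoped Nat

namespace CfsgLib.HallSym

/-- A number with all prime factors at most `b` is coprime to a number without such prime
factors. -/
theorem coprime_of_small {b C m : ℕ} (hC : ∀ p : ℕ, p.Prime → p ≤ b → ¬ p ∣ C)
    (hm : ∀ p : ℕ, p.Prime → p ∣ m → p ≤ b) : m.Coprime C :=
  Nat.coprime_of_dvd' fun p hp hpm hpC => absurd hpC (hC p hp (hm p hp hpm))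

theorem le_of_dvd_even {b m p : ℕ} (hm : Even m) (hm0 : m ≠ 0) (hmb : m ≤ 2 * b) (hb : 2 ≤ b)
    (hp : p.Prime) (hpm : p ∣ m) : p ≤ b := by
  obtain ⟨c, rfl⟩ := even_iff_two_dvd.1 hm
  rcases (hp.dvd_mul).1 hpm with h | h
  · exact (Nat.le_of_dvd two_pos h).trans hb
  · exact (Nat.le_of_dvd (by omega) h).trans (by omega)

theorem small_cases {b c : ℕ} (hlt : c + 2 < b) (hd1 : c + 3 ∣ b)
    (hd2 : b + 2 ∣ (c + 2) * (c + 1)) (hd3 : c + 1 + b ∣ (c + 2) * (c + 1)) :
    (c = 1 ∧ b = 4) ∨ (c = 7 ∧ b = 10) := by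
  obtain ⟨s, hs⟩ := hd1
  obtain ⟨t, ht⟩ := hd2
  have htlt : t < c + 2 := by nlinarith
  have ht0 : 1 ≤ t := by
    rcases Nat.eq_zero_or_pos t with rfl | h
    · simp at ht
    · exact h
  have hs1 : 1 ≤ s := by
    rcases Nat.eq_zero_or_pos s with rfl | h
    · simp at hs; omega
    · exact h
  -- `t ≡ 1` modulo `(a + 1) / 2`
  obtain ⟨k, hk⟩ : ∃ k : ℤ, (2 * (t : ℤ) - 2) = ((c : ℤ) + 3) * k := by
    refine ⟨(c : ℤ) - (s : ℤ) * t, ?_⟩
    have hb' : (b : ℤ) = ((c : ℤ) + 3) * s := by exact_mod_cast hs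
    have ht' : ((c : ℤ) + 2) * ((c : ℤ) + 1) = ((b : ℤ) + 2) * t := by exact_mod_cast ht
    rw [hb'] at ht'
    linear_combination (-1) * ht'
  have hk0 : 0 ≤ k := by nlinarith
  have hk2 : k ≤ 1 := by nlinarith
  interval_cases k
  · -- `t = 1`
    have ht1 : t = 1 := by omega
    subst ht1
    obtain ⟨u, hu⟩ := hd3
    have hu1 : u = 1 := by
      rcases Nat.lt_or_ge u 2 with h | h
      · rcases Nat.eq_zero_or_pos u with rfl | h'
        · simp at hu
        · omega
      · exfalso; nlinarith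
    subst hu1
    rw [mul_one] at hu ht
    have hc : c = 1 := by omega
    subst hc
    exact Or.inl ⟨rfl, by omega⟩
  · -- `2 t = a + 3`
    have h2t : 2 * t = c + 5 := by omega
    have hs2 : s = 1 := by
      by_contra hne
      have h2s : 2 ≤ s := by omega
      have := Nat.mul_le_mul (Nat.mul_le_mul_left (c + 3) h2s) (le_refl (2 * t))
      nlinarith
    subst hs2
    have hb' : b = c + 3 := by omega
    subst hb'
    refine Or.inr ?_
    have key : ∀ x : ℕ, 2 * ((x + 2) * (x + 1)) = (x + 5) * (x + 5) → x = 7 := fun x hx => by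
      rcases Nat.lt_trichotomy x 7 with h | h | h
      · interval_cases x <;> simp at hx
      · exact h
      · nlinarith
    have hc : c = 7 := key c (by
      calc 2 * ((c + 2) * (c + 1)) = (c + 3 + 2) * (2 * t) := by rw [ht]; ring
        _ = (c + 5) * (c + 5) := by rw [h2t])
    subst hc
    exact ⟨rfl, by omega⟩

/-- The only binomial coefficient `C(a + b, a)`, `2 ≤ a ≤ b`, without a prime divisor `≤ b` is
`C(7, 3)`. -/
theorem choose_no_small_prime {a b : ℕ} (ha : 2 ≤ a) (hab : a ≤ b)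
    (hC : ∀ p : ℕ, p.Prime → p ≤ b → ¬ p ∣ (a + b).choose a) : a = 3 ∧ b = 4 := by
  set C := (a + b).choose a with hCdef
  have hcop : ∀ m : ℕ, Even m → m ≠ 0 → m ≤ 2 * b → m.Coprime C := fun m h1 h2 h3 =>
    coprime_of_small hC fun p hp hpm => le_of_dvd_even h1 h2 h3 (by omega) hp hpm
  obtain ⟨c, rfl⟩ : ∃ c, a = c + 2 := ⟨a - 2, by omega⟩
  -- the identities
  have h1 : (c + 2 + b) * (c + 1 + b).choose (c + 1) = C * (c + 2) := by
    rw [hCdef, show c + 2 + b = c + 1 + b + 1 by omega]
    exact Nat.add_one_mul_choose_eq _ _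
  have h2 : (c + 2 + b).choose (c + 1) * (b + 1) = C * (c + 2) := by
    rw [hCdef, Nat.choose_succ_right_eq, show c + 2 + b - (c + 1) = b + 1 by omega]
  have h3 : (c + 2 + b).choose (c + 3) * (c + 3) = C * b := by
    rw [hCdef, Nat.choose_succ_right_eq, show c + 2 + b - (c + 2) = b by omega]
  -- parities
  have hodd : Odd (c + 2 + b) := by
    rcases Nat.even_or_odd (c + 2 + b) with he | ho
    · have hd := (hcop _ he (by omega) (by omega)).dvd_of_dvd_mul_left ⟨_, h1.symm⟩
      have := Nat.le_of_dvd (by omega) hd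
      omega
    · exact ho
  have hlt : c + 2 < b := by
    rcases hab.lt_or_eq with h | h
    · exact h
    · exfalso; rw [Nat.odd_iff] at hodd; omega
  have hb1 : Odd (b + 1) := by
    rcases Nat.even_or_odd (b + 1) with he | ho
    · have hd := (hcop _ he (by omega) (by omega)).dvd_of_dvd_mul_left
        ⟨(c + 2 + b).choose (c + 1), by rw [← h2, mul_comm]⟩
      have := Nat.le_of_dvd (by omega) hd
      omega
    · exact ho
  rw [Nat.odd_iff] at hodd hb1
  -- `a + 1` divides `b`
  have hd1 : c + 3 ∣ b := by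
    refine (coprime_of_small hC fun p hp hpm => ?_).dvd_of_dvd_mul_left
      ⟨(c + 2 + b).choose (c + 3), by rw [← h3, mul_comm]⟩
    exact (Nat.le_of_dvd (by omega) hpm).trans (by omega)
  -- `b + 2` and `a + b - 1` divide `a * (a - 1)`
  have h4 : (c + 2 + b).choose c * ((b + 2) * (b + 1)) = C * ((c + 2) * (c + 1)) := by
    have e := Nat.choose_succ_right_eq (c + 2 + b) c
    rw [show c + 2 + b - c = b + 2 by omega] at e
    rw [← mul_assoc, ← e, mul_comm ((c + 2 + b).choose (c + 1)) (c + 1), mul_assoc, h2]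
    ring
  have hd2 : b + 2 ∣ (c + 2) * (c + 1) :=
    (hcop (b + 2) (by rw [Nat.even_iff]; omega) (by omega) (by omega)).dvd_of_dvd_mul_left
      ⟨(b + 1) * (c + 2 + b).choose c, by rw [← h4]; ring⟩
  have h5 : (c + 2 + b) * ((c + 1 + b) * (c + b).choose c) = C * ((c + 2) * (c + 1)) := by
    have e : (c + 1 + b) * (c + b).choose c = (c + 1 + b).choose (c + 1) * (c + 1) := by
      rw [show c + 1 + b = c + b + 1 by omega]
      exact Nat.add_one_mul_choose_eq _ _
    rw [e, ← mul_assoc, h1, mul_assoc]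
  have hd3 : c + 1 + b ∣ (c + 2) * (c + 1) :=
    (hcop (c + 1 + b) (by rw [Nat.even_iff]; omega) (by omega) (by omega)).dvd_of_dvd_mul_left
      ⟨(c + 2 + b) * (c + b).choose c, by rw [← h5]; ring⟩
  rcases small_cases hlt hd1 hd2 hd3 with ⟨rfl, rfl⟩ | ⟨rfl, rfl⟩
  · exact ⟨rfl, rfl⟩
  · exfalso
    have h19 : Nat.choose 19 9 % 2 = 0 := by decide +kernel
    exact hC 2 Nat.prime_two (by omega) (Nat.dvd_of_mod_eq_zero h19)

/-- The index `(a b)! / ((a!)^b b!)`. -/
def wreathIndex (a : ℕ) : ℕ → ℕ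
  | 0 => 1
  | j + 1 => wreathIndex a j * ((j + 1) * a - 1).choose (a - 1)

theorem factorial_eq_wreath {a : ℕ} (ha : 1 ≤ a) :
    ∀ b : ℕ, (a * b)! = (a !) ^ b * b ! * wreathIndex a b
  | 0 => by simp [wreathIndex]
  | j + 1 => by
    have ih := factorial_eq_wreath ha j
    obtain ⟨d, rfl⟩ : ∃ d, a = d + 1 := ⟨a - 1, by omega⟩
    have hm : (j + 1) * (d + 1) = (d + 1) * j + d + 1 := by ring
    have e := Nat.add_one_mul_choose_eq ((d + 1) * j + d) d
    have f := Nat.choose_mul_factorial_mul_factorial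
      (show d + 1 ≤ (d + 1) * j + d + 1 by omega)
    rw [show (d + 1) * j + d + 1 - (d + 1) = (d + 1) * j by omega] at f
    have g : ((d + 1) * j + d + 1).choose (d + 1) = (j + 1) * ((d + 1) * j + d).choose d := by
      refine Nat.eq_of_mul_eq_mul_right (Nat.succ_pos d) ?_
      simp only [Nat.succ_eq_add_one]
      rw [← e, ← hm]; ring
    rw [wreathIndex, show (d + 1) * (j + 1) = (d + 1) * j + d + 1 by ring, ← f, g, ih,
      show (j + 1) * (d + 1) - 1 = (d + 1) * j + d by rw [hm]; omega, Nat.add_sub_cancel,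
      pow_succ, Nat.factorial_succ j]
    ring

theorem wreathIndex_dvd {a : ℕ} : ∀ {j b : ℕ}, j ≤ b → wreathIndex a j ∣ wreathIndex a b := by
  intro j b h
  induction b, h using Nat.le_induction with
  | base => rfl
  | succ k _ ih => exact Dvd.dvd.mul_right ih _

theorem eq_pow_of_digits_sum_le_one {p : ℕ} (hp : 1 < p) :
    ∀ a : ℕ, (Nat.digits p a).sum ≤ 1 → a = 0 ∨ ∃ k, a = p ^ k := by
  intro a
  induction a using Nat.strong_induction_on with
  | _ a ih =>
    intro h
    rcases Nat.eq_zero_or_pos a with h0 | h0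
    · exact Or.inl h0
    refine Or.inr ?_
    rw [Nat.digits_def' hp h0, List.sum_cons] at h
    have hdm := Nat.div_add_mod a p
    have hlt : a / p < a := Nat.div_lt_self h0 hp
    rcases ih _ hlt (by omega) with h1 | ⟨k, hk⟩
    · refine ⟨0, ?_⟩
      rw [h1, mul_zero] at hdm
      rw [pow_zero]
      omega
    · refine ⟨k + 1, ?_⟩
      have hmod : a % p = 0 := by
        by_contra hne
        have hne0 : a / p ≠ 0 := hk ▸ (pow_pos (by omega) k).ne'
        have hs : 0 < (Nat.digits p (a / p)).sum :=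
          List.sum_pos_iff_exists_pos_nat.mpr
            ⟨_, List.getLast_mem (Nat.digits_ne_nil_iff_ne_zero.mpr hne0),
              Nat.pos_of_ne_zero (Nat.getLast_digit_ne_zero p hne0)⟩
        omega
      rw [pow_succ, ← hk]
      rw [hmod, add_zero] at hdm
      rw [mul_comm]
      exact hdm.symm

/-- If `p ≤ b` does not divide the wreath index then `a` is a power of `p`. -/
theorem eq_pow_of_not_dvd {p a b : ℕ} (hp : p.Prime) (ha : 1 ≤ a) (hpb : p ≤ b)
    (h : ¬ p ∣ wreathIndex a b) : ∃ k, a = p ^ k := by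
  have := Fact.mk hp
  have h1 : ¬ p ∣ wreathIndex a p := fun h1 => h (h1.trans (wreathIndex_dvd hpb))
  have e := congrArg (padicValNat p) (factorial_eq_wreath ha p)
  have hw : wreathIndex a p ≠ 0 := fun h0 => h1 (by rw [h0]; exact dvd_zero p)
  rw [padicValNat.mul (mul_ne_zero (pow_ne_zero _ a.factorial_ne_zero) p.factorial_ne_zero) hw,
    padicValNat.mul (pow_ne_zero _ a.factorial_ne_zero) p.factorial_ne_zero,
    padicValNat.pow, padicValNat.eq_zero_of_not_dvd h1,
    mul_comm a p, padicValNat_factorial_mul] at e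
  have hpp : padicValNat p p ! = 1 := by
    have := padicValNat_factorial_mul (p := p) 1
    simpa using this
  rw [hpp] at e
  have hl := sub_one_mul_padicValNat_factorial (p := p) a
  have hle := Nat.digit_sum_le p a
  obtain ⟨q, rfl⟩ : ∃ q, p = q + 1 := ⟨p - 1, by have := hp.pos; omega⟩
  rw [Nat.add_sub_cancel] at hl
  rw [add_mul, one_mul] at e
  rcases eq_pow_of_digits_sum_le_one hp.one_lt a (by omega) with h0 | h0
  · omega
  · exact h0

end CfsgLib.HallSym
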