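import Mathlib
import Cfsg.Prelude.Def_HallClasses
import Cfsg.Agent.Lib.Coprime.Basic

/-!
Large `π`-subgroups of symmetric groups and permutation groups respecting a map.
-/

set_option autoImplicit false
set_option linter.style.haveILetI false
set_option linter.unusedSectionVars false

open Equiv
open scoped Nat

namespace CfsgLib.HallSym

/-- Factorization is monotone under divisibility. -/
theorem val_le_of_dvd {a b p : ℕ} (hb : b ≠ 0) (h : a ∣ b) :
    a.factorization p ≤ b.factorization p :=
  (Nat.factorization_le_iff_dvd (ne_zero_of_dvd_ne_zero hb h) hb).2 h p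

theorem val_mul {a b p : ℕ} (ha : a ≠ 0) (hb : b ≠ 0) :
    (a * b).factorization p = a.factorization p + b.factorization p := by
  rw [Nat.factorization_mul ha hb, Finsupp.add_apply]

theorem val_prod {ι : Type*} (s : Finset ι) (g : ι → ℕ) (hg : ∀ i ∈ s, g i ≠ 0) (p : ℕ) :
    (∏ i ∈ s, g i).factorization p = ∑ i ∈ s, (g i).factorization p := by
  rw [Nat.factorization_prod hg, Finsupp.finsetSum_apply]

theorem not_dvd_of_val {a p : ℕ} (hp : p.Prime) (ha : a ≠ 0) (h : a.factorization p = 0) :
    ¬ p ∣ a := fun hd => by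
  have := hp.factorization_pos_of_dvd ha hd
  omega

section

variable {α : Type*} [Fintype α]

theorem natCard_perm : Nat.card (Perm α) = (Fintype.card α)! := by
  rw [Nat.card_perm, Nat.card_eq_fintype_card]

/-- A `π`-subgroup whose order has the full `π`-part of `n!`, up to a factor `2 ^ e`. -/
def Large (π : Set ℕ) (e : ℕ) (K : Subgroup (Perm α)) : Prop :=
  Cfsg.IsPiSubgroup π K ∧ ∀ p : ℕ, p.Prime → p ∈ π →
    ((Fintype.card α)!).factorization p ≤
      (Nat.card K).factorization p + (if p = 2 then e else 0)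

variable {π : Set ℕ}

theorem Large.val_le {e : ℕ} {K : Subgroup (Perm α)} (_h : Large π e K) (p : ℕ) :
    (Nat.card K).factorization p ≤ ((Fintype.card α)!).factorization p :=
  val_le_of_dvd (Nat.factorial_ne_zero _) (natCard_perm (α := α) ▸ K.card_subgroup_dvd_card)

theorem hall_iff {H : Subgroup (Perm α)} : Cfsg.IsPiHall π H ↔ Large π 0 H := by
  have hc : Nat.card H * H.index = (Fintype.card α)! := by rw [H.card_mul_index, natCard_perm]
  have hi : H.index ≠ 0 := fun h => Nat.factorial_ne_zero (Fintype.card α) (by rw [← hc, h, mul_zero])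
  have hv : ∀ p, (Nat.card H).factorization p + H.index.factorization p =
      ((Fintype.card α)!).factorization p := fun p => by
    rw [← hc, val_mul Nat.card_pos.ne' hi]
  refine and_congr Iff.rfl (forall₃_congr fun p hp hpπ => ⟨fun h => ?_, fun h hd => ?_⟩)
  · rw [← hv p, Nat.factorization_eq_zero_of_not_dvd h]
    omega
  · have h1 := hp.factorization_pos_of_dvd hi hd
    have h2 := hv p
    split_ifs at h <;> omega

theorem large_of_hall {H : Subgroup (Perm α)} (h : Cfsg.IsPiHall π H) : Large π 0 H := hall_iff.1 h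

/-- A Hall subgroup is a maximal `π`-subgroup. -/
theorem eq_of_hall_le {G : Type*} [Group G] [Finite G] {H L : Subgroup G}
    (hH : Cfsg.IsPiHall π H) (hHL : H ≤ L) (hL : Cfsg.IsPiSubgroup π L) : H = L := by
  refine le_antisymm hHL (Subgroup.relIndex_eq_one.1 ?_)
  by_contra hne
  obtain ⟨p, hp, hpd⟩ := Nat.exists_prime_and_dvd hne
  exact hH.2 p hp (hL p hp (hpd.trans (Subgroup.relIndex_dvd_card H L)))
    (hpd.trans (Subgroup.relIndex_dvd_index_of_le hHL))

/-- The permutations respecting the fibres of `f`. -/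
def respecting {ι : Type*} (f : α → ι) : Subgroup (Perm α) where
  carrier := {σ | ∀ x y, f (σ x) = f (σ y) ↔ f x = f y}
  one_mem' := fun _ _ => Iff.rfl
  mul_mem' := fun {a b} ha hb x y => (ha (b x) (b y)).trans (hb x y)
  inv_mem' := fun {a} ha x y => by
    have := ha (a⁻¹ x) (a⁻¹ y)
    simpa using this.symm

/-- The permutations fixing every fibre of `f`. -/
def fibKer {ι : Type*} (f : α → ι) : Subgroup (Perm α) where
  carrier := {σ | ∀ x, f (σ x) = f x}
  one_mem' := fun _ => rfl
  mul_mem' := fun {a b} ha hb x => (ha (b x)).trans (hb x)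
  inv_mem' := fun {a} ha x => by
    have := ha (a⁻¹ x)
    simpa using this.symm

/-- The permutations fixing the fibre of `f` over `i`. -/
def stabFib {ι : Type*} (f : α → ι) (i : ι) : Subgroup (Perm α) where
  carrier := {σ | ∀ x, f (σ x) = i ↔ f x = i}
  one_mem' := fun _ => Iff.rfl
  mul_mem' := fun {a b} ha hb x => (ha (b x)).trans (hb x)
  inv_mem' := fun {a} ha x => by
    have := ha (a⁻¹ x)
    simpa using this.symm

/-- Restriction to a fibre. -/
def fibRes {ι : Type*} (f : α → ι) (i : ι) : stabFib f i →* Perm {x // f x = i} where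
  toFun σ := (σ : Perm α).subtypePerm σ.2
  map_one' := Equiv.ext fun _ => rfl
  map_mul' _ _ := Equiv.ext fun _ => rfl

@[simp] theorem fibRes_apply {ι : Type*} (f : α → ι) (i : ι) (σ : stabFib f i)
    (x : {x // f x = i}) : ((fibRes f i σ x : {x // f x = i}) : α) = (σ : Perm α) x := rfl

/-- The group induced on a fibre by its stabiliser in `K`. -/
def fibGroup {ι : Type*} (K : Subgroup (Perm α)) (f : α → ι) (i : ι) :
    Subgroup (Perm {x // f x = i}) :=
  (K.subgroupOf (stabFib f i)).map (fibRes f i)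

theorem card_fibGroup_dvd {ι : Type*} (K : Subgroup (Perm α)) (f : α → ι) (i : ι) :
    Nat.card (fibGroup K f i) ∣ Nat.card K :=
  ((K.subgroupOf (stabFib f i)).card_map_dvd (fibRes f i)).trans (by
    rw [Nat.card_congr (show K.subgroupOf (stabFib f i) ≃ ↥(K ⊓ stabFib f i) from
      ⟨fun x => ⟨(x : stabFib f i), x.2, (x : stabFib f i).2⟩, fun x => ⟨⟨x, x.2.2⟩, x.2.1⟩,
        fun _ => rfl, fun _ => rfl⟩)]
    exact Subgroup.card_dvd_of_le inf_le_left)

/-- The permutations fixing every fibre and acting on each like an element of `K`. -/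
def blockwise {ι : Type*} (K : Subgroup (Perm α)) (f : α → ι) : Subgroup (Perm α) where
  carrier := {σ | ∀ i, ∃ s ∈ K, s ∈ stabFib f i ∧ ∀ x, f x = i → σ x = s x}
  one_mem' := fun i => ⟨1, K.one_mem, (stabFib f i).one_mem, fun _ _ => rfl⟩
  mul_mem' := fun {a b} ha hb i => by
    obtain ⟨s, hs, hs', hsx⟩ := ha i
    obtain ⟨t, ht, ht', htx⟩ := hb i
    refine ⟨s * t, K.mul_mem hs ht, (stabFib f i).mul_mem hs' ht', fun x hx => ?_⟩
    rw [Perm.mul_apply, Perm.mul_apply, htx x hx, hsx _ ((ht' x).2 hx)]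
  inv_mem' := fun {a} ha i => by
    obtain ⟨s, hs, hs', hsx⟩ := ha i
    refine ⟨s⁻¹, K.inv_mem hs, (stabFib f i).inv_mem hs', fun x hx => ?_⟩
    have h1 : f (s⁻¹ x) = i := ((stabFib f i).inv_mem hs' x).2 hx
    rw [Perm.inv_eq_iff_eq, hsx _ h1]
    exact (s.apply_symm_apply x).symm

theorem blockwise_le_fibKer {ι : Type*} (K : Subgroup (Perm α)) (f : α → ι) :
    blockwise K f ≤ fibKer f := fun σ hσ x => by
  obtain ⟨s, -, hs, hsx⟩ := hσ (f x)
  rw [hsx x rfl]
  exact (hs x).2 rfl

theorem inf_fibKer_le_blockwise {ι : Type*} (K : Subgroup (Perm α)) (f : α → ι) :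
    K ⊓ fibKer f ≤ blockwise K f := fun σ hσ i =>
  ⟨σ, hσ.1, fun x => by rw [hσ.2 x], fun _ _ => rfl⟩

theorem le_normalizer_blockwise {ι : Type*} {K : Subgroup (Perm α)} {f : α → ι}
    (hf : Function.Surjective f) (hK : K ≤ respecting f) :
    K ≤ Subgroup.normalizer (blockwise K f : Set (Perm α)) := by
  have key : ∀ k ∈ K, ∀ σ ∈ blockwise K f, k * σ * k⁻¹ ∈ blockwise K f := by
    intro k hk σ hσ i
    obtain ⟨y, rfl⟩ := hf i
    obtain ⟨s, hs, hs', hsx⟩ := hσ (f (k⁻¹ y))
    refine ⟨k * s * k⁻¹, K.mul_mem (K.mul_mem hk hs) (K.inv_mem hk), fun x => ?_, fun x hx => ?_⟩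
    · simp only [Perm.mul_apply]
      conv_lhs => rw [show y = k (k⁻¹ y) from (k.apply_symm_apply y).symm]
      rw [hK hk _ _, hs' _, hK (K.inv_mem hk) _ _]
    · simp only [Perm.mul_apply]
      rw [hsx _ ((hK (K.inv_mem hk) x y).2 hx)]
  intro k hk
  rw [Subgroup.mem_normalizer_iff]
  intro σ
  constructor
  · exact key k hk σ
  · intro h
    have := key k⁻¹ (K.inv_mem hk) _ h
    rwa [show k⁻¹ * (k * σ * k⁻¹) * k⁻¹⁻¹ = σ by group] at this

/-- The restrictions of a fibre-fixing permutation. -/
def fibProd {ι : Type*} (f : α → ι) : fibKer f →* ∀ i, Perm {x // f x = i} where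
  toFun σ i := (σ : Perm α).subtypePerm fun x => by rw [σ.2 x]
  map_one' := funext fun _ => Equiv.ext fun _ => rfl
  map_mul' _ _ := funext fun _ => Equiv.ext fun _ => rfl

theorem fibProd_injective {ι : Type*} (f : α → ι) : Function.Injective (fibProd f) := by
  intro σ τ h
  refine Subtype.ext (Equiv.ext fun x => ?_)
  exact congrArg Subtype.val (DFunLike.congr_fun (congrFun h (f x)) ⟨x, rfl⟩)

theorem card_blockwise_dvd {ι : Type*} [Fintype ι] (K : Subgroup (Perm α)) (f : α → ι) :
    Nat.card (blockwise K f) ∣ ∏ i, Nat.card (fibGroup K f i) := by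
  let bw : blockwise K f →* ∀ i, fibGroup K f i :=
    { toFun := fun σ i => ⟨fibProd f ⟨σ, blockwise_le_fibKer K f σ.2⟩ i, by
        obtain ⟨s, hs, hs', hsx⟩ := σ.2 i
        exact ⟨⟨s, hs'⟩, hs, Equiv.ext fun x => Subtype.ext (hsx x.1 x.2).symm⟩⟩
      map_one' := funext fun _ => Subtype.ext (Equiv.ext fun _ => rfl)
      map_mul' := fun _ _ => funext fun _ => Subtype.ext (Equiv.ext fun _ => rfl) }
  rw [← Nat.card_pi]
  refine Subgroup.card_dvd_of_injective bw fun σ τ h => Subtype.ext ?_
  exact congrArg (fun z : fibKer f => (z : Perm α)) (fibProd_injective f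
    (a₁ := ⟨σ, blockwise_le_fibKer K f σ.2⟩) (a₂ := ⟨τ, blockwise_le_fibKer K f τ.2⟩)
    (funext fun i => congrArg Subtype.val (congrFun h i)))

/-- The action on the fibres. -/
noncomputable def blockHom {ι : Type*} (f : α → ι) (hf : Function.Surjective f) :
    respecting f →* Perm ι where
  toFun σ :=
    { toFun := fun i => f ((σ : Perm α) (Function.surjInv hf i))
      invFun := fun i => f ((σ : Perm α)⁻¹ (Function.surjInv hf i))
      left_inv := fun i => by
        have h := ((respecting f).inv_mem σ.2 (Function.surjInv hf (f ((σ : Perm α)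
          (Function.surjInv hf i)))) ((σ : Perm α) (Function.surjInv hf i))).2
          (Function.surjInv_eq hf _)
        simpa [Function.surjInv_eq hf] using h
      right_inv := fun i => by
        have h := (σ.2 (Function.surjInv hf (f ((σ : Perm α)⁻¹
          (Function.surjInv hf i)))) ((σ : Perm α)⁻¹ (Function.surjInv hf i))).2
          (Function.surjInv_eq hf _)
        simpa [Function.surjInv_eq hf] using h }
  map_one' := Equiv.ext fun i => Function.surjInv_eq hf i
  map_mul' σ τ := Equiv.ext fun i => (σ.2 _ _).2 (Function.surjInv_eq hf _).symm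

theorem blockHom_apply {ι : Type*} (f : α → ι) (hf : Function.Surjective f) (σ : respecting f)
    (x : α) : blockHom f hf σ (f x) = f ((σ : Perm α) x) :=
  (σ.2 _ _).2 (Function.surjInv_eq hf _)

/-- The group induced on the fibres. -/
noncomputable def blockImage {ι : Type*} (K : Subgroup (Perm α)) (f : α → ι)
    (hf : Function.Surjective f) : Subgroup (Perm ι) :=
  (K.subgroupOf (respecting f)).map (blockHom f hf)

theorem blockImage_eq_bot {ι : Type*} {K : Subgroup (Perm α)} {f : α → ι}
    (hf : Function.Surjective f) (hK : K ≤ fibKer f) : blockImage K f hf = ⊥ := by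
  rw [blockImage, Subgroup.map_eq_bot_iff]
  intro σ hσ
  rw [MonoidHom.mem_ker]
  refine Equiv.ext fun i => ?_
  obtain ⟨x, rfl⟩ := hf i
  rw [blockHom_apply]
  exact hK hσ x

theorem card_dvd_of_respecting {ι : Type*} [Fintype ι] {K : Subgroup (Perm α)} {f : α → ι}
    (hf : Function.Surjective f) (hK : K ≤ respecting f) :
    Nat.card K ∣ (∏ i, Nat.card (fibGroup K f i)) * Nat.card (blockImage K f hf) := by
  let ψ : K →* Perm ι := (blockHom f hf).comp (Subgroup.inclusion hK)
  have h1 : Nat.card K = Nat.card ψ.ker * Nat.card ψ.range := by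
    rw [Subgroup.card_eq_card_quotient_mul_card_subgroup ψ.ker,
      Nat.card_congr (QuotientGroup.quotientKerEquivRange ψ).toEquiv, mul_comm]
  have h2 : ψ.range = blockImage K f hf := by
    rw [MonoidHom.range_comp, Subgroup.inclusion_range]; rfl
  rw [h1, h2]
  refine mul_dvd_mul_right ((?_ : _ ∣ Nat.card (blockwise K f)).trans (card_blockwise_dvd K f)) _
  rw [← Subgroup.card_map_of_injective (K := ψ.ker) K.subtype_injective]
  refine Subgroup.card_dvd_of_le ?_
  rintro _ ⟨σ, hσ, rfl⟩
  refine inf_fibKer_le_blockwise K f ⟨σ.2, fun x => ?_⟩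
  have := DFunLike.congr_fun (MonoidHom.mem_ker.1 hσ) (f x)
  rwa [MonoidHom.comp_apply, blockHom_apply, Perm.one_apply] at this

theorem card_fibGroup_dvd_factorial {ι : Type*} [DecidableEq ι] (K : Subgroup (Perm α)) (f : α → ι)
    (i : ι) : Nat.card (fibGroup K f i) ∣ (Fintype.card {x // f x = i})! :=
  natCard_perm (α := {x // f x = i}) ▸ Subgroup.card_subgroup_dvd_card _

theorem card_blockImage_dvd_factorial {ι : Type*} [Fintype ι] (K : Subgroup (Perm α)) (f : α → ι)
    (hf : Function.Surjective f) : Nat.card (blockImage K f hf) ∣ (Fintype.card ι)! :=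
  natCard_perm (α := ι) ▸ Subgroup.card_subgroup_dvd_card _

theorem isPi_of_dvd {G G' : Type*} [Group G] [Group G'] {A : Subgroup G} {B : Subgroup G'}
    (hB : Cfsg.IsPiSubgroup π B) (h : Nat.card A ∣ Nat.card B) : Cfsg.IsPiSubgroup π A :=
  fun p hp hd => hB p hp (hd.trans h)

theorem isPi_blockwise {ι : Type*} [Fintype ι] {K : Subgroup (Perm α)} (hK : Cfsg.IsPiSubgroup π K)
    (f : α → ι) : Cfsg.IsPiSubgroup π (blockwise K f) := fun p hp hd => by
  obtain ⟨i, -, hi⟩ := (hp.prime.dvd_finsetProd_iff _).1 (hd.trans (card_blockwise_dvd K f))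
  exact hK p hp (hi.trans (card_fibGroup_dvd K f i))

theorem isPi_sup_blockwise {ι : Type*} [Fintype ι] {K : Subgroup (Perm α)}
    (hK : Cfsg.IsPiSubgroup π K) {f : α → ι} (hf : Function.Surjective f) (hKf : K ≤ respecting f) :
    Cfsg.IsPiSubgroup π (K ⊔ blockwise K f) := fun p hp hd => by
  have h := CfsgLib.Coprime.card_sup_mul_card_inf (le_normalizer_blockwise hf hKf)
  rcases hp.dvd_mul.1 (hd.trans ⟨_, h.symm⟩) with h1 | h1
  · exact hK p hp h1
  · exact isPi_blockwise hK f p hp h1

variable [DecidableEq α]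

theorem two_mul_card_dvd {R : Subgroup (Perm α)} (hR : R ≤ alternatingGroup α)
    (h2 : 2 ≤ Fintype.card α) : 2 * Nat.card R ∣ (Fintype.card α)! := by
  haveI : Nontrivial α := Fintype.one_lt_card_iff_nontrivial.1 h2
  have h := two_mul_card_alternatingGroup (α := α)
  rw [← natCard_perm, Nat.card_eq_fintype_card (α := Perm α), ← h,
    ← Nat.card_eq_fintype_card (α := alternatingGroup α)]
  exact mul_dvd_mul_left 2 (Subgroup.card_dvd_of_le hR)

theorem not_le_alternatingGroup_blockwise {ι : Type*} [DecidableEq ι] {K : Subgroup (Perm α)}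
    {f : α → ι} {i : ι} (h : ¬ fibGroup K f i ≤ alternatingGroup {x // f x = i}) :
    ¬ blockwise K f ≤ alternatingGroup α := by
  obtain ⟨r, hr, hr'⟩ := SetLike.not_le_iff_exists.1 h
  refine SetLike.not_le_iff_exists.2 ⟨Perm.ofSubtype r, fun j => ?_, ?_⟩
  · rcases eq_or_ne j i with rfl | hji
    · obtain ⟨s, hs, rfl⟩ := hr
      refine ⟨s, hs, s.2, fun x hx => ?_⟩
      rw [Perm.ofSubtype_apply_of_mem (p := fun x => f x = j) _ hx]
      rfl
    · refine ⟨1, K.one_mem, (stabFib f j).one_mem, fun x hx => ?_⟩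
      exact Perm.ofSubtype_apply_of_not_mem _ (fun h => hji (hx.symm.trans h))
  · rwa [Perm.mem_alternatingGroup, Perm.sign_ofSubtype, ← Perm.mem_alternatingGroup]

/-- A large even `π`-subgroup together with an odd permutation in a common `π`-subgroup gives a
Hall subgroup. -/
theorem hall_of_large_le_odd {K L : Subgroup (Perm α)} (hK : Large π 1 K)
    (hKA : K ≤ alternatingGroup α) (hKL : K ≤ L) (hL : Cfsg.IsPiSubgroup π L)
    (hLA : ¬ L ≤ alternatingGroup α) : Cfsg.IsPiHall π L := by
  haveI : Nontrivial α := by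
    obtain ⟨σ, -, hσ⟩ := SetLike.not_le_iff_exists.1 hLA
    rcases subsingleton_or_nontrivial α with h | h
    · exact absurd (by rw [Subsingleton.elim σ 1]; exact one_mem _) hσ
    · exact h
  set A := alternatingGroup α
  have hidx : A.relIndex L = 2 := by
    have h1 : A.relIndex L ∣ 2 := alternatingGroup.index_eq_two (α := α) ▸
      Subgroup.relIndex_dvd_index_of_normal A L
    rcases (Nat.dvd_prime Nat.prime_two).1 h1 with h | h
    · exact absurd (Subgroup.relIndex_eq_one.1 h) hLA
    · exact h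
  have hdvd : 2 * Nat.card K ∣ Nat.card L := by
    rw [← (A.subgroupOf L).card_mul_index, mul_comm (Nat.card (A.subgroupOf L))]
    refine mul_dvd_mul (by rw [← hidx]; rfl) ?_
    rw [← Nat.card_congr (Subgroup.subgroupOfEquivOfLe hKL).toEquiv]
    exact Subgroup.card_dvd_of_le fun x hx => hKA hx
  refine hall_iff.2 ⟨hL, fun p hp hpπ => ?_⟩
  have h1 := hK.2 p hp hpπ
  have h2 := val_le_of_dvd (p := p) Nat.card_pos.ne' hdvd
  rw [val_mul two_ne_zero Nat.card_pos.ne', Nat.prime_two.factorization] at h2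
  by_cases h : p = 2
  · subst h
    simp only [Finsupp.single_eq_same, if_pos] at h1 h2 ⊢
    omega
  · rw [if_neg h] at h1
    simp only [if_neg h]
    omega

/-- A fibred large even subgroup lies in a Hall subgroup. -/
theorem extend_of_respecting {ι : Type*} [Fintype ι] [DecidableEq ι] {K : Subgroup (Perm α)}
    {f : α → ι} (hf : Function.Surjective f) (hKf : K ≤ respecting f) (h2π : 2 ∈ π)
    (hK : Large π 1 K) (hKA : K ≤ alternatingGroup α) {c : ℕ}
    (hc : Nat.card (blockImage K f hf) ∣ c)
    (hdiv : (∏ i, (Fintype.card {x // f x = i})!) * c ∣ (Fintype.card α)!) {i j : ι} (hij : i ≠ j)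
    (hi : 2 ≤ Fintype.card {x // f x = i}) (hj : 2 ≤ Fintype.card {x // f x = j}) :
    ∃ L, Cfsg.IsPiHall π L ∧ K ≤ L := by
  by_cases hodd : ∃ k, ¬ fibGroup K f k ≤ alternatingGroup {x // f x = k}
  · obtain ⟨k, hk⟩ := hodd
    exact ⟨K ⊔ blockwise K f, hall_of_large_le_odd hK hKA le_sup_left
      (isPi_sup_blockwise hK.1 hf hKf)
      (fun h => not_le_alternatingGroup_blockwise hk (le_sup_right.trans h)), le_sup_left⟩
  exfalso
  push Not at hodd
  let g : ι → ℕ := fun k => if k = i ∨ k = j then 2 else 1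
  have hg : ∀ k, g k * Nat.card (fibGroup K f k) ∣ (Fintype.card {x // f x = k})! := by
    intro k
    by_cases hk : k = i ∨ k = j
    · simp only [g, if_pos hk]
      refine two_mul_card_dvd (hodd k) ?_
      rcases hk with rfl | rfl
      · exact hi
      · exact hj
    · simp only [g, if_neg hk, one_mul]
      exact card_fibGroup_dvd_factorial K f k
  have h4 : ∏ k, g k = 4 := by
    rw [← Finset.prod_filter_mul_prod_filter_not Finset.univ (fun k => k = i ∨ k = j)]
    rw [Finset.prod_congr rfl (g := fun _ => 2) (fun k hk => if_pos (Finset.mem_filter.1 hk).2),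
      Finset.prod_congr rfl (g := fun _ => 1) (fun k hk => if_neg (Finset.mem_filter.1 hk).2)]
    have : Finset.univ.filter (fun k => k = i ∨ k = j) = {i, j} := by ext k; simp
    rw [this, Finset.prod_pair hij, Finset.prod_const_one]; rfl
  have hd : 4 * Nat.card K ∣ (Fintype.card α)! := by
    refine Dvd.dvd.trans ?_ hdiv
    refine (mul_dvd_mul_left 4 (card_dvd_of_respecting hf hKf)).trans ?_
    rw [← mul_assoc, ← h4, ← Finset.prod_mul_distrib]
    exact mul_dvd_mul (Finset.prod_dvd_prod_of_dvd _ _ fun k _ => hg k) hc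
  have h1 := hK.2 2 Nat.prime_two h2π
  have h3 := val_le_of_dvd (p := 2) (Nat.factorial_ne_zero _) hd
  rw [val_mul (by norm_num) Nat.card_pos.ne'] at h3
  have : (4 : ℕ).factorization 2 = 2 := by
    rw [show (4 : ℕ) = 2 ^ 2 by norm_num, Nat.Prime.factorization_pow Nat.prime_two]
    simp
  simp at h1
  omega

/-- The fibre groups of a fibred Hall subgroup are Hall subgroups. -/
theorem large_fibGroup {ι : Type*} [Fintype ι] [DecidableEq ι] {H : Subgroup (Perm α)}
    {f : α → ι} (hf : Function.Surjective f) (hHf : H ≤ respecting f) (hH : Large π 0 H) {c : ℕ}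
    (hc : Nat.card (blockImage H f hf) ∣ c)
    (hdiv : (∏ i, (Fintype.card {x // f x = i})!) * c ∣ (Fintype.card α)!) :
    (∀ i, Large π 0 (fibGroup H f i)) ∧
      ∀ p : ℕ, p.Prime → p ∈ π → ((Fintype.card α)!).factorization p =
        (∑ i, ((Fintype.card {x // f x = i})!).factorization p) + c.factorization p := by
  have hc0 : c ≠ 0 := fun h => Nat.factorial_ne_zero (Fintype.card α)
    (eq_zero_of_zero_dvd (by simpa [h] using hdiv))
  have hprod : (∏ i, (Fintype.card {x // f x = i})!) ≠ 0 :=
    Finset.prod_ne_zero_iff.2 fun i _ => Nat.factorial_ne_zero _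
  have key : ∀ p : ℕ, p.Prime → p ∈ π →
      (∀ i, ((Fintype.card {x // f x = i})!).factorization p =
        (Nat.card (fibGroup H f i)).factorization p) ∧
      ((Fintype.card α)!).factorization p =
        (∑ i, ((Fintype.card {x // f x = i})!).factorization p) + c.factorization p := by
    intro p hp hpπ
    have h1 := hH.2 p hp hpπ
    have h2 := val_le_of_dvd (p := p)
      (mul_ne_zero (Finset.prod_ne_zero_iff.2 fun i _ => Nat.card_pos.ne') Nat.card_pos.ne')
      (card_dvd_of_respecting hf hHf)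
    rw [val_mul (Finset.prod_ne_zero_iff.2 fun i _ => Nat.card_pos.ne') Nat.card_pos.ne',
      val_prod _ _ fun i _ => Nat.card_pos.ne'] at h2
    have h3 := val_le_of_dvd (p := p) (Nat.factorial_ne_zero _) hdiv
    rw [val_mul hprod hc0, val_prod _ _ fun i _ => Nat.factorial_ne_zero _] at h3
    have h4 := val_le_of_dvd (p := p) hc0 hc
    have h5 : ∀ i ∈ Finset.univ, (Nat.card (fibGroup H f i)).factorization p ≤
        ((Fintype.card {x // f x = i})!).factorization p := fun i _ =>
      val_le_of_dvd (Nat.factorial_ne_zero _) (card_fibGroup_dvd_factorial H f i)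
    have h6 := Finset.sum_le_sum h5
    simp at h1
    refine ⟨fun i => ?_, by omega⟩
    exact ((Finset.sum_eq_sum_iff_of_le h5).1 (by omega) i (Finset.mem_univ _)).symm
  refine ⟨fun i => ⟨isPi_of_dvd hH.1 (card_fibGroup_dvd H f i), fun p hp hpπ => ?_⟩,
    fun p hp hpπ => (key p hp hpπ).2⟩
  rw [(key p hp hpπ).1 i]
  simp

end

end CfsgLib.HallSym
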