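import Cfsg.Agent.Lib.HallSym.Transitive

/-!
Classification of Hall subgroups of symmetric groups, and extension of Hall subgroups of
alternating groups.
-/

set_option autoImplicit false
set_option linter.style.haveILetI false
set_option linter.unusedSectionVars false

open Equiv MulAction
open scoped Nat Pointwise

namespace CfsgLib.HallSym

universe u

/-- Every relevant prime lies in `π`. -/
def AllUpTo (π : Set ℕ) (n : ℕ) : Prop := ∀ r : ℕ, r.Prime → r ≤ n → r ∈ π

/-- Two relevant primes lie in `π`. -/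
def TwoPrimes (π : Set ℕ) (n : ℕ) : Prop :=
  ∃ r s : ℕ, r.Prime ∧ s.Prime ∧ r ≠ s ∧ r ∈ π ∧ s ∈ π ∧ r ≤ n ∧ s ≤ n

/-- The exceptional cases of Hall's theorem. -/
def Exceptional (π : Set ℕ) (n : ℕ) : Prop :=
  (n.Prime ∧ ∀ r : ℕ, r.Prime → r ≤ n → (r ∈ π ↔ r < n)) ∨
    ((n = 7 ∨ n = 8) ∧ ∀ r : ℕ, r.Prime → r ≤ n → (r ∈ π ↔ (r = 2 ∨ r = 3)))

variable {π : Set ℕ}

section

variable {α : Type u} [Fintype α] [DecidableEq α]

/-- Membership in a finite set, as a map to `Bool`. -/
def memb (s : Finset α) : α → Bool := fun x => decide (x ∈ s)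

theorem memb_surjective {s : Finset α} (h0 : s.Nonempty) (h1 : sᶜ.Nonempty) :
    Function.Surjective (memb s)
  | true => h0.imp fun x hx => by simp [memb, hx]
  | false => h1.imp fun x hx => by simp [memb, Finset.mem_compl.1 hx]

theorem card_memb_true (s : Finset α) : Fintype.card {x // memb s x = true} = s.card := by
  rw [← Fintype.card_coe s]
  exact Fintype.card_congr (Equiv.subtypeEquivRight fun x => by simp [memb])

theorem card_memb_false (s : Finset α) :
    Fintype.card {x // memb s x = false} = Fintype.card α - s.card := by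
  rw [← Finset.card_compl, ← Fintype.card_coe sᶜ]
  exact Fintype.card_congr (Equiv.subtypeEquivRight fun x => by simp [memb])

/-- The shape of a Hall subgroup of a symmetric group in the exceptional cases. -/
def Shape (π : Set ℕ) (H : Subgroup (Perm α)) : Prop :=
  ∃ s : Finset α,
    (Fintype.card α).Prime ∧
        (∀ r : ℕ, r.Prime → r ≤ Fintype.card α → (r ∈ π ↔ r < Fintype.card α)) ∧
        s.card = 1 ∧ H ≤ fibKer (memb s) ∨
    Fintype.card α = 7 ∧ (∀ r : ℕ, r.Prime → r ≤ 7 → (r ∈ π ↔ (r = 2 ∨ r = 3))) ∧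
        s.card = 3 ∧ H ≤ fibKer (memb s) ∨
    Fintype.card α = 8 ∧ (∀ r : ℕ, r.Prime → r ≤ 8 → (r ∈ π ↔ (r = 2 ∨ r = 3))) ∧
        s.card = 4 ∧ H ≤ respecting (memb s)

theorem Shape.exceptional {H : Subgroup (Perm α)} (h : Shape π H) :
    Exceptional π (Fintype.card α) := by
  obtain ⟨s, ⟨h1, h2, -⟩ | ⟨h1, h2, -⟩ | ⟨h1, h2, -⟩⟩ := h
  · exact Or.inl ⟨h1, h2⟩
  · exact Or.inr ⟨Or.inl h1, h1 ▸ h2⟩
  · exact Or.inr ⟨Or.inr h1, h1 ▸ h2⟩

/-- An intransitive group fixes a nonempty set of at most half the points. -/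
theorem exists_fibKer {K : Subgroup (Perm α)} [Nonempty α] (h : ¬ IsPretransitive K α) :
    ∃ s : Finset α, s.Nonempty ∧ sᶜ.Nonempty ∧ 2 * s.card ≤ Fintype.card α ∧
      K ≤ fibKer (memb s) := by
  classical
  obtain ⟨x, y, hxy⟩ : ∃ x y : α, ∀ σ : K, σ • x ≠ y := by
    by_contra! hne
    exact h ⟨hne⟩
  let O : Finset α := Finset.univ.filter fun z => z ∈ orbit K x
  have hO : ∀ σ ∈ K, ∀ z, σ z ∈ O ↔ z ∈ O := by
    intro σ hσ z
    simp only [O, Finset.mem_filter, Finset.mem_univ, true_and]
    constructor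
    · rintro ⟨τ, hτ⟩
      refine ⟨(⟨σ, hσ⟩ : K)⁻¹ * τ, ?_⟩
      change ((⟨σ, hσ⟩ : K)⁻¹ * τ) • x = z
      rw [mul_smul, inv_smul_eq_iff]
      exact hτ
    · rintro ⟨τ, hτ⟩
      refine ⟨(⟨σ, hσ⟩ : K) * τ, ?_⟩
      change ((⟨σ, hσ⟩ : K) * τ) • x = σ z
      rw [mul_smul, show τ • x = z from hτ]
      rfl
  have hx : x ∈ O := by simp [O, mem_orbit_self]
  have hy : y ∉ O := by
    simp only [O, Finset.mem_filter, Finset.mem_univ, true_and]
    rintro ⟨σ, hσ⟩
    exact hxy σ hσ
  rcases le_or_gt (2 * O.card) (Fintype.card α) with hle | hgt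
  · exact ⟨O, ⟨x, hx⟩, ⟨y, Finset.mem_compl.2 hy⟩, hle,
      fun σ hσ z => by simp only [memb, hO σ hσ z]⟩
  · refine ⟨Oᶜ, ⟨y, Finset.mem_compl.2 hy⟩, ⟨x, by simpa using hx⟩, ?_,
      fun σ hσ z => by simp only [memb, Finset.mem_compl, hO σ hσ z]⟩
    rw [Finset.card_compl]
    omega

theorem fibKer_le_respecting {ι : Type*} (f : α → ι) : fibKer f ≤ respecting f :=
  fun σ hσ x y => by rw [hσ x, hσ y]

theorem prod_memb (s : Finset α) :
    ∏ i, (Fintype.card {x // memb s x = i})! = (s.card)! * (Fintype.card α - s.card)! := by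
  rw [Fintype.prod_bool, card_memb_true, card_memb_false]

theorem factorial_dvd_two_sets (s : Finset α) :
    (∏ i, (Fintype.card {x // memb s x = i})!) * 1 ∣ (Fintype.card α)! := by
  rw [mul_one, prod_memb]
  exact Nat.factorial_mul_factorial_dvd_factorial (Finset.card_le_univ _)

theorem dvd_natCard_of_fibres (a b : ℕ) (ha : 1 ≤ a) : (a !) ^ b * b ! ∣ (a * b)! :=
  ⟨_, factorial_eq_wreath ha b⟩

/-- With at most one relevant prime, every `π`-subgroup lies in a Hall subgroup. -/
theorem extend_one_prime {K : Subgroup (Perm α)} (hK : Cfsg.IsPiSubgroup π K) (h2π : 2 ∈ π)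
    (h : ¬ TwoPrimes π (Fintype.card α)) : ∃ L, Cfsg.IsPiHall π L ∧ K ≤ L := by
  haveI := Fact.mk Nat.prime_two
  rcases Nat.lt_or_ge (Fintype.card α) 2 with hn | hn
  · refine ⟨⊤, hall_iff.2 ⟨fun p hp hd => ?_, fun p _ _ => ?_⟩, le_top⟩
    · rw [Subgroup.card_top, natCard_perm] at hd
      have := (hp.dvd_factorial).1 hd
      have := hp.two_le
      omega
    · rw [Subgroup.card_top, natCard_perm]
      simp
  have honly : ∀ p : ℕ, p.Prime → p ∈ π → p ≤ Fintype.card α → p = 2 := fun p hp hpπ hpn => by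
    by_contra hne
    exact h ⟨p, 2, hp, Nat.prime_two, hne, hpπ, h2π, hpn, hn⟩
  have hK2 : IsPGroup 2 K := IsPGroup.of_card
    (Nat.eq_prime_pow_of_unique_prime_dvd Nat.card_pos.ne' (fun {q} hq hd => honly q hq (hK q hq hd)
      ((hq.dvd_factorial).1 (hd.trans (natCard_perm (α := α) ▸ K.card_subgroup_dvd_card)))))
  obtain ⟨Q, hQ⟩ := hK2.exists_le_sylow
  refine ⟨Q, hall_iff.2 ⟨fun p hp hd => ?_, fun p hp hpπ => ?_⟩, hQ⟩
  · have := Q.isPGroup'
    obtain ⟨k, hk⟩ := IsPGroup.iff_card.1 this
    rw [hk] at hd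
    rwa [(Nat.prime_dvd_prime_iff_eq hp Nat.prime_two).1 (hp.dvd_of_dvd_pow hd)]
  · by_cases hpn : p ≤ Fintype.card α
    · obtain rfl := honly p hp hpπ hpn
      rw [Q.card_eq_multiplicity, natCard_perm, Nat.prime_two.factorization_pow,
        Finsupp.single_eq_same]
      exact Nat.le_add_right _ _
    · rw [Nat.factorization_eq_zero_of_not_dvd (fun hd => hpn ((hp.dvd_factorial).1 hd))]
      exact Nat.zero_le _

theorem not_le_alternatingGroup_of_large {H : Subgroup (Perm α)} (hH : Large π 0 H) (h2π : 2 ∈ π)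
    (hn : 2 ≤ Fintype.card α) : ¬ H ≤ alternatingGroup α := fun hle => by
  have h1 := hH.2 2 Nat.prime_two h2π
  have h2 := val_le_of_dvd (p := 2) (Nat.factorial_ne_zero _) (two_mul_card_dvd hle hn)
  rw [val_mul two_ne_zero Nat.card_pos.ne', Nat.prime_two.factorization, Finsupp.single_eq_same] at h2
  simp at h1
  omega

theorem top_hall_of_all (h : AllUpTo π (Fintype.card α)) :
    Cfsg.IsPiHall π (⊤ : Subgroup (Perm α)) := by
  refine hall_iff.2 ⟨fun p hp hd => h p hp ?_, fun p _ _ => ?_⟩
  · rw [Subgroup.card_top, natCard_perm] at hd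
    exact (hp.dvd_factorial).1 hd
  · rw [Subgroup.card_top, natCard_perm]
    simp

end

/-- Hall subgroups of alternating groups extend, in the inductive form. -/
theorem exists_hall_above_aux (h2π : 2 ∈ π) : ∀ (n : ℕ) (α : Type u) [Fintype α] [DecidableEq α],
    Fintype.card α = n → ∀ K : Subgroup (Perm α), Large π 1 K → K ≤ alternatingGroup α →
      ∃ L, Cfsg.IsPiHall π L ∧ K ≤ L := by
  intro n
  induction n using Nat.strong_induction_on with
  | _ n ih =>
  intro α _ _ hn K hK hKA
  by_cases h2 : TwoPrimes π (Fintype.card α)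
  swap
  · exact extend_one_prime hK.1 h2π h2
  have h3 : 3 ≤ Fintype.card α := by
    obtain ⟨r, s, hr, hs, hrs, -, -, hrn, hsn⟩ := h2
    have := hr.two_le; have := hs.two_le
    omega
  haveI : Nonempty α := Fintype.card_pos_iff.1 (by omega)
  by_cases ht : IsPretransitive K α
  · by_cases hp : IsPreprimitive K α
    · exact ⟨⊤, top_hall_of_all (all_of_primitive hK (fun _ => hKA) hp h2), le_top⟩
    · obtain ⟨a, b, f, ha, hb, hab, hf, hKf, hfib⟩ := exists_fibres hp
      refine extend_of_respecting hf hKf h2π hK hKA (card_blockImage_dvd_factorial K f hf) ?_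
        (i := ⟨0, by omega⟩) (j := ⟨1, by omega⟩) (by simp [Fin.ext_iff])
        (by rw [hfib]; omega) (by rw [hfib]; omega)
      rw [Finset.prod_congr rfl fun i _ => by rw [hfib i], Finset.prod_const, Finset.card_univ,
        Fintype.card_fin, ← hab]
      exact dvd_natCard_of_fibres a b (by omega)
  obtain ⟨s, hs0, hs1, hs2, hKs⟩ := exists_fibKer ht
  have hf := memb_surjective hs0 hs1
  have hKf : K ≤ respecting (memb s) := hKs.trans (fibKer_le_respecting _)
  have hbot : Nat.card (blockImage K (memb s) hf) ∣ 1 := by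
    rw [blockImage_eq_bot hf hKs, Subgroup.card_bot]
  rcases Nat.lt_or_ge s.card 2 with hs3 | hs3
  swap
  · exact extend_of_respecting hf hKf h2π hK hKA hbot (factorial_dvd_two_sets s)
      (i := true) (j := false) (by decide) (by rw [card_memb_true]; exact hs3)
      (by rw [card_memb_false]; omega)
  -- a fixed point
  have hs4 : s.card = 1 := by have := hs0.card_pos; omega
  let R := fibGroup K (memb s) false
  have hcardF : Fintype.card {x // memb s x = false} = Fintype.card α - 1 := by
    rw [card_memb_false, hs4]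
  have hKfix : ∀ σ ∈ K, ∀ x, memb s x = true → σ x = x := by
    intro σ hσ x hx
    obtain ⟨z, rfl⟩ := Finset.card_eq_one.1 hs4
    have h1 := hKs hσ x
    simp only [memb, Finset.mem_singleton, decide_eq_true_eq, decide_eq_decide] at hx h1
    rw [h1.2 hx, hx]
  have hres : ∀ σ ∈ K, ∀ hσ' : σ ∈ stabFib (memb s) false,
      Perm.ofSubtype (fibRes (memb s) false ⟨σ, hσ'⟩) = σ := by
    intro σ hσ hσ'
    refine Perm.ofSubtype_subtypePerm (fun x => hσ' x) fun x hx => ?_
    by_contra h
    exact hx (hKfix σ hσ x (by simpa using h))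
  have hmemK : ∀ σ ∈ K, σ ∈ stabFib (memb s) false := fun σ hσ x => by rw [hKs hσ x]
  have hKle : K ≤ R.map Perm.ofSubtype := fun σ hσ =>
    ⟨_, ⟨⟨σ, hmemK σ hσ⟩, hσ, rfl⟩, hres σ hσ _⟩
  have hRA : R ≤ alternatingGroup {x // memb s x = false} := by
    rintro _ ⟨σ, hσ, rfl⟩
    rw [Perm.mem_alternatingGroup, ← Perm.sign_ofSubtype]
    rw [show Perm.ofSubtype (fibRes (memb s) false σ) = σ.1 from hres σ.1 hσ σ.2]
    exact Perm.mem_alternatingGroup.1 (hKA hσ)
  have hR : Large π 1 R := by
    refine ⟨isPi_of_dvd hK.1 (card_fibGroup_dvd K _ _), fun p hp hpπ => ?_⟩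
    refine le_trans ?_ (le_trans (hK.2 p hp hpπ) (Nat.add_le_add_right ?_ _))
    · exact val_le_of_dvd (Nat.factorial_ne_zero _) (Nat.factorial_dvd_factorial (by omega))
    · refine val_le_of_dvd Nat.card_pos.ne' ?_
      rw [← Subgroup.card_map_of_injective (K := R) Perm.ofSubtype_injective]
      exact Subgroup.card_dvd_of_le hKle
  obtain ⟨L, hL, hRL⟩ := ih _ (by omega) {x // memb s x = false} rfl R hR hRA
  refine ⟨L.map Perm.ofSubtype, hall_of_large_le_odd hK hKA
    (hKle.trans (Subgroup.map_mono hRL)) (fun p hp hd => hL.1 p hp ?_) ?_,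
    hKle.trans (Subgroup.map_mono hRL)⟩
  · rwa [Subgroup.card_map_of_injective Perm.ofSubtype_injective] at hd
  · intro hle
    refine not_le_alternatingGroup_of_large (large_of_hall hL) h2π (by omega) fun r hr => ?_
    rw [Perm.mem_alternatingGroup, ← Perm.sign_ofSubtype]
    exact Perm.mem_alternatingGroup.1 (hle ⟨r, hr, rfl⟩)

/-- Hall subgroups of alternating groups lie in Hall subgroups of symmetric groups. -/
theorem exists_hall_above {α : Type u} [Fintype α] [DecidableEq α] (h2π : 2 ∈ π)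
    {K : Subgroup (Perm α)} (hK : Large π 1 K) (hKA : K ≤ alternatingGroup α) :
    ∃ L, Cfsg.IsPiHall π L ∧ K ≤ L :=
  exists_hall_above_aux h2π _ α rfl K hK hKA

theorem choose_not_coprime_six : ∀ b ∈ ({7, 8} : Finset ℕ), ∀ a ∈ Finset.Icc 1 b,
    (a + b).choose a % 2 = 0 ∨ (a + b).choose a % 3 = 0 := by decide +kernel

theorem classify_aux : ∀ (n : ℕ) (α : Type u) [Fintype α] [DecidableEq α],
    Fintype.card α = n → ∀ H : Subgroup (Perm α), Large π 0 H → TwoPrimes π n →
      AllUpTo π n ∨ Shape π H := by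
  intro n
  induction n using Nat.strong_induction_on with
  | _ n ih =>
  intro α _ _ hn H hH h2
  subst hn
  set n := Fintype.card α with hn
  obtain ⟨r₀, s₀, hr₀, hs₀, hne₀, hr₀π, hs₀π, hr₀n, hs₀n⟩ := id h2
  have h3 : 3 ≤ n := by
    have := hr₀.two_le; have := hs₀.two_le
    omega
  haveI : Nonempty α := Fintype.card_pos_iff.1 (by omega)
  have hfdvd : ∀ p : ℕ, p.Prime → p ≤ n → 1 ≤ (n !).factorization p := fun p hp hpn =>
    hp.factorization_pos_of_dvd (Nat.factorial_ne_zero _) (Nat.dvd_factorial hp.pos hpn)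
  by_cases ht : IsPretransitive H α
  · by_cases hp : IsPreprimitive H α
    · left
      have hH1 : Large π 1 H := ⟨hH.1, fun p hp hpπ => by
        have h := hH.2 p hp hpπ
        split_ifs at h ⊢ <;> omega⟩
      by_cases h2π : 2 ∈ π
      · obtain ⟨g, hg, hgc, hgs⟩ := exists_cycle_mem hH Nat.prime_two h2π (by omega) (Or.inr rfl)
        have htop := Perm.subgroup_eq_top_of_isPreprimitive_of_isSwap_mem hp g
          (Perm.card_support_eq_two.1 hgs) hg
        intro r hr hrn
        exact hH.1 r hr (by rw [htop, Subgroup.card_top, natCard_perm]; exact Nat.dvd_factorial hr.pos hrn)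
      · exact all_of_primitive hH1 (fun h => absurd h h2π) hp h2
    -- imprimitive
    obtain ⟨a, b, f, ha, hb, hab, hf, hHf, hfib⟩ := exists_fibres hp
    rw [← hn] at hab
    have hdiv : (∏ i, (Fintype.card {x // f x = i})!) * b ! ∣ n ! := by
      rw [Finset.prod_congr rfl fun i _ => by rw [hfib i], Finset.prod_const, Finset.card_univ,
        Fintype.card_fin, ← hab]
      exact dvd_natCard_of_fibres a b (by omega)
    obtain ⟨hR, hval⟩ := large_fibGroup hf hHf hH (c := b !)
      (by simpa using card_blockImage_dvd_factorial H f hf) hdiv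
    have hW : ∀ p : ℕ, p.Prime → p ∈ π → ¬ p ∣ wreathIndex a b := by
      intro p hp hpπ
      have h1 := hval p hp hpπ
      simp only [hfib, Finset.sum_const, Finset.card_univ, Fintype.card_fin, smul_eq_mul] at h1
      have hw : wreathIndex a b ≠ 0 := fun h => Nat.factorial_ne_zero (a * b)
        (by rw [factorial_eq_wreath (by omega) b, h, mul_zero])
      rw [← hn, ← hab, factorial_eq_wreath (by omega) b,
        val_mul (mul_ne_zero (pow_ne_zero _ a.factorial_ne_zero) b.factorial_ne_zero) hw,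
        val_mul (pow_ne_zero _ a.factorial_ne_zero) b.factorial_ne_zero, Nat.factorization_pow,
        Finsupp.smul_apply, smul_eq_mul] at h1
      exact not_dvd_of_val hp hw (by omega)
    have hdn : ∀ p : ℕ, p.Prime → p ∣ n → p ∈ π := fun p hp hd =>
      hH.1 p hp (hd.trans (card_dvd_of_transitive H))
    have hle : ∀ p : ℕ, p.Prime → p ∈ π → p ≤ n → p ≤ a := by
      intro p hp hpπ hpn
      by_contra hpa
      by_cases hpb : p ≤ b
      · obtain ⟨k, hk⟩ := eq_pow_of_not_dvd hp (by omega) hpb (hW p hp hpπ)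
        rcases Nat.eq_zero_or_pos k with rfl | hk0
        · simp at hk; omega
        · exact hpa (hk ▸ Nat.le_of_dvd (pow_pos hp.pos k) (dvd_pow_self p hk0.ne'))
      · have h1 := hval p hp hpπ
        simp only [hfib, Finset.sum_const, Finset.card_univ, Fintype.card_fin, smul_eq_mul] at h1
        rw [Nat.factorization_eq_zero_of_not_dvd (fun h => hpa ((hp.dvd_factorial).1 h)),
          Nat.factorization_eq_zero_of_not_dvd (fun h => hpb ((hp.dvd_factorial).1 h))] at h1
        have := hfdvd p hp hpn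
        simp [← hn] at h1
        omega
    have han : a < n := by rw [← hab]; nlinarith
    have h2a : TwoPrimes π a := ⟨r₀, s₀, hr₀, hs₀, hne₀, hr₀π, hs₀π,
      hle r₀ hr₀ hr₀π hr₀n, hle s₀ hs₀ hs₀π hs₀n⟩
    have hsub : AllUpTo π a ∨ Exceptional π a :=
      (ih a han _ (hfib ⟨0, by omega⟩) (fibGroup H f ⟨0, by omega⟩) (hR _) h2a).elim
        Or.inl fun hsh => Or.inr (hfib _ ▸ hsh.exceptional)
    set q := b.minFac with hq
    have hqp : q.Prime := Nat.minFac_prime (by omega)
    have hqb : q ≤ b := Nat.minFac_le (by omega)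
    have hqπ : q ∈ π := hdn q hqp ((Nat.minFac_dvd b).trans ⟨a, by rw [← hab, mul_comm]⟩)
    obtain ⟨k, hk⟩ := eq_pow_of_not_dvd hqp (by omega) hqb (hW q hqp hqπ)
    have hk0 : k ≠ 0 := by rintro rfl; simp at hk; omega
    have hadiv : a ∣ n := ⟨b, hab.symm⟩
    have hbig : ∀ p : ℕ, p.Prime → p ∈ π → p ≠ q → b < p := by
      intro p hp hpπ hne
      by_contra h
      obtain ⟨j, hj⟩ := eq_pow_of_not_dvd hp (by omega) (not_lt.1 h) (hW p hp hpπ)
      have h1 : q ∣ p ^ j := hj ▸ hk ▸ dvd_pow_self q hk0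
      exact hne ((Nat.prime_dvd_prime_iff_eq hqp hp).1 (hqp.dvd_of_dvd_pow h1)).symm
    have hq2_of : 2 ∈ π → q = 2 := fun h => by
      by_contra hne
      have := hbig 2 Nat.prime_two h (Ne.symm hne)
      omega
    rcases hsub with hall | ⟨hap, hex⟩ | ⟨h78, hex⟩
    · have hq2 : q = 2 := hq2_of (hall 2 Nat.prime_two ha)
      have ha3 : 3 ≤ a := by
        have := hle r₀ hr₀ hr₀π hr₀n
        have := hle s₀ hs₀ hs₀π hs₀n
        have := hr₀.two_le; have := hs₀.two_le
        omega
      have hb2 : b = 2 := by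
        have := hbig 3 Nat.prime_three (hall 3 Nat.prime_three ha3) (by omega)
        omega
      subst hb2
      have ha4 : a - 1 = 3 ∧ a = 4 := by
        refine choose_no_small_prime (by omega) (by omega) fun p hp hpa hd => ?_
        refine hW p hp (hall p hp hpa) (hd.trans ?_)
        simp only [wreathIndex]
        rw [show (1 + 1) * a - 1 = a - 1 + a by omega]
        exact dvd_mul_left _ _
      right
      refine ⟨Finset.univ.filter fun x => f x = 0, Or.inr (Or.inr ⟨by omega, fun r hr hr8 => ?_, ?_, ?_⟩)⟩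
      · constructor
        · intro hrπ
          have := hle r hr hrπ (by omega)
          have := hr.two_le
          have h4 : r ≠ 4 := by rintro rfl; norm_num at hr
          omega
        · rintro (rfl | rfl)
          · exact hall 2 Nat.prime_two (by omega)
          · exact hall 3 Nat.prime_three (by omega)
      · rw [← Fintype.card_subtype, hfib]
        exact ha4.2
      · intro σ hσ x y
        have key : ∀ u v : Fin 2, (decide (u = 0) = decide (v = 0)) ↔ u = v := by decide
        simp only [memb, Finset.mem_filter, Finset.mem_univ, true_and]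
        rw [key, key]
        exact hHf hσ x y
    · exact absurd ((hex a hap le_rfl).1 (hdn a hap hadiv)) (lt_irrefl a)
    · exfalso
      rcases h78 with rfl | rfl
      · have := (hex 7 (by norm_num) le_rfl).1 (hdn 7 (by norm_num) hadiv)
        omega
      · have h2π : 2 ∈ π := (hex 2 Nat.prime_two (by norm_num)).2 (Or.inl rfl)
        have h3π : 3 ∈ π := (hex 3 Nat.prime_three (by norm_num)).2 (Or.inr rfl)
        have hb2 : b = 2 := by
          have := hbig 3 Nat.prime_three h3π (by rw [hq2_of h2π]; norm_num)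
          omega
        subst hb2
        exact hW 3 Nat.prime_three h3π (by decide +kernel)
  -- intransitive
  obtain ⟨s, hs0, hs1, hs2, hHs⟩ := exists_fibKer ht
  rw [← hn] at hs2
  have hf := memb_surjective hs0 hs1
  obtain ⟨hR, hval⟩ := large_fibGroup hf (hHs.trans (fibKer_le_respecting _)) hH (c := 1)
    (by rw [blockImage_eq_bot hf hHs, Subgroup.card_bot]) (factorial_dvd_two_sets s)
  obtain ⟨a, hsa⟩ : ∃ a, s.card = a := ⟨_, rfl⟩
  obtain ⟨b, hb⟩ : ∃ b, n = a + b := ⟨n - a, by omega⟩
  have ha1 : 1 ≤ a := hsa ▸ hs0.card_pos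
  have hcardF : Fintype.card {x // memb s x = false} = b := by
    rw [card_memb_false, hsa, ← hn]
    omega
  have hC : ∀ p : ℕ, p.Prime → p ∈ π → ¬ p ∣ n.choose a := by
    intro p hp hpπ
    have hc0 : n.choose a ≠ 0 := (Nat.choose_pos (by omega)).ne'
    have h1 := hval p hp hpπ
    rw [Fintype.sum_bool, card_memb_true, hcardF, hsa, ← hn,
      ← Nat.choose_mul_factorial_mul_factorial (show a ≤ n by omega), show n - a = b by omega,
      val_mul (mul_ne_zero hc0 a.factorial_ne_zero) b.factorial_ne_zero,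
      val_mul hc0 a.factorial_ne_zero, Nat.factorization_one] at h1
    refine not_dvd_of_val hp hc0 ?_
    simp at h1
    omega
  have hle : ∀ p : ℕ, p.Prime → p ∈ π → p ≤ n → p ≤ b := by
    intro p hp hpπ hpn
    by_contra h
    have h1 := hval p hp hpπ
    rw [Fintype.sum_bool, card_memb_true, hcardF, hsa, ← hn,
      Nat.factorization_eq_zero_of_not_dvd (n := a !) (fun h' => absurd ((hp.dvd_factorial).1 h') (by omega)),
      Nat.factorization_eq_zero_of_not_dvd (n := b !) (fun h' => h ((hp.dvd_factorial).1 h'))] at h1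
    have := hfdvd p hp hpn
    simp at h1
    omega
  have h2b : TwoPrimes π b := ⟨r₀, s₀, hr₀, hs₀, hne₀, hr₀π, hs₀π,
    hle r₀ hr₀ hr₀π hr₀n, hle s₀ hs₀ hs₀π hs₀n⟩
  have hsub : AllUpTo π b ∨ Exceptional π b :=
    (ih b (by omega) _ hcardF _ (hR false) h2b).imp id fun h => hcardF ▸ h.exceptional
  rcases hsub with hall | ⟨hbp, hex⟩ | ⟨h78, hex⟩
  · right
    rcases Nat.lt_or_ge a 2 with ha2 | ha2
    · have ha : a = 1 := by omega
      subst ha
      have hnp : n.Prime := by
        obtain ⟨t, ht, htn⟩ := Nat.exists_prime_and_dvd (show n ≠ 1 by omega)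
        have := Nat.le_of_dvd (by omega) htn
        by_cases htb : t ≤ b
        · exact absurd ((Nat.choose_one_right n).symm ▸ htn) (hC t ht (hall t ht htb))
        · rwa [show n = t by omega]
      refine ⟨s, Or.inl ⟨hnp, fun r hr hrn => ⟨fun hrπ => ?_, fun hlt => hall r hr ?_⟩, hsa, hHs⟩⟩
      · have := hle r hr hrπ hrn
        omega
      · omega
    · obtain ⟨rfl, rfl⟩ := choose_no_small_prime ha2 (show a ≤ b by omega)
        fun p hp hpb => hb ▸ hC p hp (hall p hp hpb)
      refine ⟨s, Or.inr (Or.inl ⟨hb, fun r hr hr7 => ⟨fun hrπ => ?_, ?_⟩, hsa, hHs⟩)⟩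
      · have := hle r hr hrπ (by omega)
        have := hr.two_le
        have h4 : r ≠ 4 := by rintro rfl; norm_num at hr
        omega
      · rintro (rfl | rfl)
        · exact hall 2 Nat.prime_two (by omega)
        · exact hall 3 Nat.prime_three (by omega)
  · exfalso
    have hnotπ : b ∉ π := fun h => lt_irrefl b ((hex b hbp le_rfl).1 h)
    have hb3 : 3 ≤ b := by
      have := hle r₀ hr₀ hr₀π hr₀n
      have := hle s₀ hs₀ hs₀π hs₀n
      have := hr₀.two_le; have := hs₀.two_le
      omega
    have hbodd : b % 2 = 1 := hbp.eq_two_or_odd.resolve_left (by omega)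
    have hcop : (b + 1).Coprime (n.choose a) := by
      refine Nat.coprime_of_dvd' fun p hp hp1 hp2 => absurd hp2 (hC p hp ?_)
      obtain ⟨c, hc⟩ : 2 ∣ b + 1 := by omega
      have hpb : p < b := by
        rcases hp.dvd_mul.1 (hc ▸ hp1) with h | h
        · have := Nat.le_of_dvd two_pos h; omega
        · have := Nat.le_of_dvd (by omega) h; omega
      exact (hex p hp hpb.le).2 hpb
    obtain ⟨c, rfl⟩ : ∃ c, a = c + 1 := ⟨a - 1, by omega⟩
    rcases Nat.lt_or_ge (c + 1) b with hab | hab
    · have e := Nat.choose_succ_right_eq n c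
      rw [show n - c = b + 1 by omega] at e
      have := Nat.le_of_dvd (Nat.succ_pos c) (hcop.dvd_of_dvd_mul_left ⟨n.choose c, by rw [e, mul_comm]⟩)
      omega
    · have hbc : b = c + 1 := by omega
      subst hbc
      refine hC 2 Nat.prime_two ((hex 2 Nat.prime_two (by omega)).2 (by omega)) ?_
      have e := Nat.add_one_mul_choose_eq (2 * c + 1) c
      rw [show 2 * c + 1 + 1 = n by omega] at e
      refine ⟨(2 * c + 1).choose c, Nat.eq_of_mul_eq_mul_right (Nat.succ_pos c) ?_⟩
      rw [Nat.succ_eq_add_one, ← e, show n = 2 * (c + 1) by omega]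
      ring
  · exfalso
    have hbmem : b ∈ ({7, 8} : Finset ℕ) := by simpa using h78
    rcases choose_not_coprime_six b hbmem a (Finset.mem_Icc.2 ⟨ha1, by omega⟩) with h | h
    · exact hC 2 Nat.prime_two ((hex 2 Nat.prime_two (by omega)).2 (Or.inl rfl))
        (hb ▸ Nat.dvd_of_mod_eq_zero h)
    · exact hC 3 Nat.prime_three ((hex 3 Nat.prime_three (by omega)).2 (Or.inr rfl))
        (hb ▸ Nat.dvd_of_mod_eq_zero h)

/-- Hall's classification of the Hall subgroups of symmetric groups. -/
theorem classify {α : Type u} [Fintype α] [DecidableEq α] {H : Subgroup (Perm α)}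
    (hH : Cfsg.IsPiHall π H) (h2 : TwoPrimes π (Fintype.card α)) :
    AllUpTo π (Fintype.card α) ∨ Shape π H :=
  classify_aux _ α rfl H (large_of_hall hH) h2

end CfsgLib.HallSym
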