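import Cfsg.Agent.Lib.HallSym.Classify

/-!
Hall `π`-subgroups of symmetric and alternating groups: existence, conjugacy, intersections.
-/

set_option autoImplicit false
set_option linter.style.haveILetI false
set_option linter.unusedSectionVars false

open Equiv
open scoped Nat

namespace CfsgLib.HallSym

universe u

section generic

variable {G : Type u} [Group G] [Finite G] {π : Set ℕ}

theorem exists_le_maximal_pi {U : Subgroup G} (hU : Cfsg.IsPiSubgroup π U) :
    ∃ M, U ≤ M ∧ Maximal (Cfsg.IsPiSubgroup π) M := by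
  obtain ⟨M, hM, hmax⟩ := (Set.toFinite {V : Subgroup G | Cfsg.IsPiSubgroup π V}).exists_le_maximal hU
  exact ⟨M, hM, hmax⟩

theorem maximal_of_hall {H : Subgroup G} (hH : Cfsg.IsPiHall π H) :
    Maximal (Cfsg.IsPiSubgroup π) H :=
  ⟨hH.1, fun _ hL hHL => (eq_of_hall_le hH hHL hL).ge⟩

/-- Where `π` meets the order trivially or fully, the Sylow theorems give everything. -/
theorem dPi_cPi_of_trivial
    (h : (∀ r s : ℕ, r.Prime → s.Prime → r ∈ π → s ∈ π → r ∣ Nat.card G → s ∣ Nat.card G → r = s) ∨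
      ∀ r : ℕ, r.Prime → r ∣ Nat.card G → r ∈ π) :
    Cfsg.IsDPiGroup π G ∧ Cfsg.IsCPiGroup π G := by
  suffices hmain : Cfsg.IsDPiGroup π G ∧ Cfsg.IsEPiGroup π G from
    ⟨hmain.1, hmain.2, fun H K hH hK => hmain.1 H K (maximal_of_hall hH) (maximal_of_hall hK)⟩
  rcases h with h | h
  · by_cases hp : ∃ p : ℕ, p.Prime ∧ p ∈ π ∧ p ∣ Nat.card G
    · obtain ⟨p, hp, hpπ, hpd⟩ := hp
      haveI := Fact.mk hp
      have hpg : ∀ U : Subgroup G, Cfsg.IsPiSubgroup π U → IsPGroup p U := fun U hU =>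
        IsPGroup.of_card (Nat.eq_prime_pow_of_unique_prime_dvd Nat.card_pos.ne' fun {q} hq hd =>
          h q p hq hp (hU q hq hd) hpπ (hd.trans U.card_subgroup_dvd_card) hpd)
      have hpi : ∀ Q : Sylow p G, Cfsg.IsPiSubgroup π (Q : Subgroup G) := fun Q q hq hd => by
        obtain ⟨k, hk⟩ := IsPGroup.iff_card.1 Q.isPGroup'
        rw [hk] at hd
        rwa [(Nat.prime_dvd_prime_iff_eq hq hp).1 (hq.dvd_of_dvd_pow hd)]
      refine ⟨fun H K hH hK => ?_, ?_⟩
      · obtain ⟨Q, hQ⟩ := (hpg H hH.1).exists_le_sylow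
        obtain ⟨R, hR⟩ := (hpg K hK.1).exists_le_sylow
        have e1 : H = Q := le_antisymm hQ (hH.2 (hpi Q) hQ)
        have e2 : K = R := le_antisymm hR (hK.2 (hpi R) hR)
        obtain ⟨g, hg⟩ := MulAction.exists_smul_eq G Q R
        refine ⟨g, ?_⟩
        rw [e1, e2, ← hg, Sylow.coe_subgroup_smul]
        rfl
      · obtain ⟨Q⟩ : Nonempty (Sylow p G) := inferInstance
        refine ⟨Q, hpi Q, fun q hq hqπ hd => Q.not_dvd_index ?_⟩
        rwa [h q p hq hp hqπ hpπ (hd.trans (Subgroup.index_dvd_card _)) hpd] at hd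
    · push Not at hp
      have hbot : ∀ U : Subgroup G, Cfsg.IsPiSubgroup π U → U = ⊥ := fun U hU => by
        by_contra hne
        obtain ⟨q, hq, hd⟩ := Nat.exists_prime_and_dvd (fun h1 => hne (Subgroup.card_eq_one.1 h1))
        exact hp q hq (hU q hq hd) (hd.trans U.card_subgroup_dvd_card)
      refine ⟨fun H K hH hK => ⟨1, ?_⟩, ⊥, fun q hq hd => ?_, fun q hq hqπ hd =>
        hp q hq hqπ (hd.trans (Subgroup.index_dvd_card _))⟩
      · rw [hbot H hH.1, hbot K hK.1, Subgroup.map_bot]
      · rw [Subgroup.card_bot] at hd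
        exact absurd hd hq.not_dvd_one
  · have htop : Cfsg.IsPiSubgroup π (⊤ : Subgroup G) := fun q hq hd => h q hq (by rwa [Subgroup.card_top] at hd)
    refine ⟨fun H K hH hK => ⟨1, ?_⟩, ⊤, htop, fun q hq _ hd => ?_⟩
    · rw [top_le_iff.1 (hH.2 htop le_top), top_le_iff.1 (hK.2 htop le_top)]
      rw [← MonoidHom.range_eq_map, MonoidHom.range_eq_top.2 (MulEquiv.surjective _)]
    · rw [Subgroup.index_top] at hd
      exact absurd hd hq.not_dvd_one

/-- The intersection of a Hall subgroup with a normal subgroup is a Hall subgroup of it. -/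
theorem hall_subgroupOf_normal {L A : Subgroup G} [A.Normal] (hL : Cfsg.IsPiHall π L) :
    Cfsg.IsPiHall π (L.subgroupOf A) := by
  refine ⟨fun p hp hd => hL.1 p hp ?_, fun p hp hpπ hd => ?_⟩
  · rw [← Subgroup.inf_subgroupOf_right,
      Nat.card_congr (Subgroup.subgroupOfEquivOfLe (inf_le_right : L ⊓ A ≤ A)).toEquiv] at hd
    exact hd.trans (Subgroup.card_dvd_of_le inf_le_left)
  · have h1 : (L ⊓ A).relIndex A * A.index = (L ⊓ A).index := Subgroup.relIndex_mul_index inf_le_right
    have h2 : (L ⊓ A).relIndex L * L.index = (L ⊓ A).index := Subgroup.relIndex_mul_index inf_le_left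
    rw [Subgroup.inf_relIndex_right] at h1
    rw [Subgroup.inf_relIndex_left] at h2
    have hA : A.index ≠ 0 := Subgroup.index_ne_zero_of_finite
    have hd' : p ∣ L.relIndex A := hd
    have hr : L.relIndex A ≠ 0 := Subgroup.index_ne_zero_of_finite
    have hl : A.relIndex L ≠ 0 := Subgroup.index_ne_zero_of_finite
    have h3 := congrArg (fun m : ℕ => m.factorization p) (h1.trans h2.symm)
    simp only [val_mul hr hA, val_mul hl Subgroup.index_ne_zero_of_finite,
      Nat.factorization_eq_zero_of_not_dvd (hL.2 p hp hpπ)] at h3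
    have h4 := val_le_of_dvd (p := p) hA (Subgroup.relIndex_dvd_index_of_normal A L)
    have h5 := hp.factorization_pos_of_dvd hr hd'
    omega

end generic

section symmetric

variable {α : Type u} [Fintype α] [DecidableEq α] {π : Set ℕ}

theorem card_fibKer {ι : Type*} [Fintype ι] [DecidableEq ι] (f : α → ι) :
    Nat.card (fibKer f) = ∏ i, (Fintype.card {x // f x = i})! := by
  have hsurj : Function.Surjective (fibProd f) := by
    intro t
    refine ⟨⟨(Equiv.sigmaFiberEquiv f).permCongr (Equiv.Perm.sigmaCongrRight t), fun x => ?_⟩, ?_⟩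
    · obtain ⟨⟨i, y, hy⟩, rfl⟩ := (Equiv.sigmaFiberEquiv f).surjective x
      simp only [Equiv.permCongr_apply, Equiv.symm_apply_apply]
      exact (t i ⟨y, hy⟩).2.trans hy.symm
    · funext i
      refine Equiv.ext fun ⟨y, hy⟩ => Subtype.ext ?_
      subst hy
      simp [fibProd, Equiv.permCongr_apply, Equiv.sigmaFiberEquiv]
  rw [Nat.card_congr (MulEquiv.ofBijective (fibProd f) ⟨fibProd_injective f, hsurj⟩).toEquiv,
    Nat.card_pi]
  exact Finset.prod_congr rfl fun i _ => natCard_perm

theorem card_fibKer_memb (s : Finset α) :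
    Nat.card (fibKer (memb s)) = s.card ! * (Fintype.card α - s.card)! := by
  rw [card_fibKer, prod_memb]

theorem card_respecting_dvd {s : Finset α} (h0 : s.Nonempty) (h1 : sᶜ.Nonempty) :
    Nat.card (respecting (memb s)) ∣ s.card ! * (Fintype.card α - s.card)! * 2 := by
  refine (card_dvd_of_respecting (memb_surjective h0 h1) le_rfl).trans (mul_dvd_mul ?_ ?_)
  · rw [← prod_memb]
    exact Finset.prod_dvd_prod_of_dvd _ _ fun i _ => card_fibGroup_dvd_factorial _ _ i
  · exact card_blockImage_dvd_factorial _ _ _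

theorem exists_map_eq {s t : Finset α} (h : s.card = t.card) :
    ∃ g : Perm α, ∀ x, g x ∈ t ↔ x ∈ s := by
  obtain ⟨e⟩ : Nonempty ({x // x ∈ s} ≃ {x // x ∈ t}) := ⟨Fintype.equivOfCardEq (by simpa using h)⟩
  refine ⟨e.extendSubtype, fun x => ⟨fun hx => ?_, fun hx => e.extendSubtype_mem x hx⟩⟩
  by_contra hn
  exact e.extendSubtype_not_mem x hn hx

theorem map_conj_fibKer {ι : Type*} (f : α → ι) (g : Perm α) :
    (fibKer f).map (MulAut.conj g).toMonoidHom = fibKer (fun x => f (g⁻¹ x)) := by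
  ext σ
  constructor
  · rintro ⟨τ, hτ, rfl⟩ x
    simpa using hτ (g⁻¹ x)
  · intro hσ
    refine ⟨g⁻¹ * σ * g, fun x => ?_, by simp [mul_assoc]⟩
    simpa using hσ (g x)

theorem map_conj_respecting {ι : Type*} (f : α → ι) (g : Perm α) :
    (respecting f).map (MulAut.conj g).toMonoidHom = respecting (fun x => f (g⁻¹ x)) := by
  ext σ
  constructor
  · rintro ⟨τ, hτ, rfl⟩ x y
    simpa using hτ (g⁻¹ x) (g⁻¹ y)
  · intro hσ
    refine ⟨g⁻¹ * σ * g, fun x y => ?_, by simp [mul_assoc]⟩
    simpa using hσ (g x) (g y)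

theorem memb_conj {s t : Finset α} {g : Perm α} (hg : ∀ x, g x ∈ t ↔ x ∈ s) :
    (fun x => memb s (g⁻¹ x)) = memb t := funext fun x => by
  have := hg (g⁻¹ x)
  rw [show g (g⁻¹ x) = x from g.apply_symm_apply x] at this
  simp only [memb, this]

theorem prime_le_four {p : ℕ} (hp : p.Prime) (h : p ≤ 4) : p = 2 ∨ p = 3 := by
  have := hp.two_le
  have h4 : p ≠ 4 := by rintro rfl; norm_num at hp
  omega

/-- The standard subgroup of each exceptional shape is a `π`-group. -/
theorem isPi_fibKer_prime {s : Finset α} (hn : (Fintype.card α).Prime)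
    (hπ : ∀ r : ℕ, r.Prime → r ≤ Fintype.card α → (r ∈ π ↔ r < Fintype.card α)) (hs : s.card = 1) :
    Cfsg.IsPiSubgroup π (fibKer (memb s)) := fun p hp hd => by
  rw [card_fibKer_memb, hs, Nat.factorial_one, one_mul, hp.dvd_factorial] at hd
  have := hn.two_le
  exact (hπ p hp (by omega)).2 (by omega)

theorem isPi_fibKer_seven {s : Finset α} (hn : Fintype.card α = 7)
    (hπ : ∀ r : ℕ, r.Prime → r ≤ 7 → (r ∈ π ↔ (r = 2 ∨ r = 3))) (hs : s.card = 3) :
    Cfsg.IsPiSubgroup π (fibKer (memb s)) := fun p hp hd => by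
  rw [card_fibKer_memb, hs, hn, hp.dvd_mul, hp.dvd_factorial, hp.dvd_factorial] at hd
  exact (hπ p hp (by omega)).2 (prime_le_four hp (by omega))

theorem nonempty_of_half {s : Finset α} (hn : Fintype.card α = 8) (hs : s.card = 4) :
    s.Nonempty ∧ sᶜ.Nonempty := by
  constructor
  · exact Finset.card_pos.1 (by omega)
  · exact Finset.card_pos.1 (by rw [Finset.card_compl]; omega)

theorem isPi_respecting_eight {s : Finset α} (hn : Fintype.card α = 8)
    (hπ : ∀ r : ℕ, r.Prime → r ≤ 8 → (r ∈ π ↔ (r = 2 ∨ r = 3))) (hs : s.card = 4) :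
    Cfsg.IsPiSubgroup π (respecting (memb s)) := fun p hp hd => by
  obtain ⟨h0, h1⟩ := nonempty_of_half hn hs
  have hd' := hd.trans (card_respecting_dvd h0 h1)
  rw [hs, hn, hp.dvd_mul, hp.dvd_mul] at hd'
  simp only [hp.dvd_factorial] at hd'
  have : p ≤ 4 := by
    rcases hd' with (h | h) | h
    · omega
    · omega
    · have := Nat.le_of_dvd two_pos h; omega
  exact (hπ p hp (by omega)).2 (prime_le_four hp this)

/-- Conjugacy of Hall subgroups of a symmetric group in the exceptional cases. -/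
theorem conj_of_shape {H K : Subgroup (Perm α)} (hH : Cfsg.IsPiHall π H) (hK : Cfsg.IsPiHall π K)
    (hsH : Shape π H) (hsK : Shape π K) :
    ∃ g : Perm α, K = H.map (MulAut.conj g).toMonoidHom := by
  have h57 : (∀ r : ℕ, r.Prime → r ≤ Fintype.card α → (r ∈ π ↔ r < Fintype.card α)) →
      Fintype.card α = 7 → (∀ r : ℕ, r.Prime → r ≤ 7 → (r ∈ π ↔ (r = 2 ∨ r = 3))) → False := by
    intro h1 hn h2
    have := (h2 5 (by norm_num) (by norm_num)).1 ((h1 5 (by norm_num) (by omega)).2 (by omega))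
    omega
  obtain ⟨s, ⟨hn, hπ, hs, hle⟩ | ⟨hn, hπ, hs, hle⟩ | ⟨hn, hπ, hs, hle⟩⟩ := hsH <;>
    obtain ⟨t, ⟨hn', hπ', ht, hle'⟩ | ⟨hn', hπ', ht, hle'⟩ | ⟨hn', hπ', ht, hle'⟩⟩ := hsK
  · obtain ⟨g, hg⟩ := exists_map_eq (hs.trans ht.symm)
    refine ⟨g, ?_⟩
    rw [eq_of_hall_le hH hle (isPi_fibKer_prime hn hπ hs),
      eq_of_hall_le hK hle' (isPi_fibKer_prime hn hπ' ht), map_conj_fibKer, memb_conj hg]
  · exact (h57 hπ hn' hπ').elim
  · rw [hn'] at hn; norm_num at hn
  · exact (h57 hπ' hn hπ).elim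
  · obtain ⟨g, hg⟩ := exists_map_eq (hs.trans ht.symm)
    refine ⟨g, ?_⟩
    rw [eq_of_hall_le hH hle (isPi_fibKer_seven hn hπ hs),
      eq_of_hall_le hK hle' (isPi_fibKer_seven hn hπ' ht), map_conj_fibKer, memb_conj hg]
  · omega
  · rw [hn] at hn'; norm_num at hn'
  · omega
  · obtain ⟨g, hg⟩ := exists_map_eq (hs.trans ht.symm)
    refine ⟨g, ?_⟩
    rw [eq_of_hall_le hH hle (isPi_respecting_eight hn hπ hs),
      eq_of_hall_le hK hle' (isPi_respecting_eight hn hπ' ht), map_conj_respecting, memb_conj hg]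

/-- A symmetric group of exceptional degree has a Hall subgroup. -/
theorem ePi_of_exceptional (h : Exceptional π (Fintype.card α)) :
    Cfsg.IsEPiGroup π (Perm α) := by
  obtain ⟨hn, hπ⟩ | ⟨hn, hπ⟩ := h
  · obtain ⟨s, -, hs⟩ := Finset.exists_subset_card_eq (s := (Finset.univ : Finset α)) (n := 1)
      (by rw [Finset.card_univ]; exact hn.one_le)
    refine ⟨fibKer (memb s), hall_iff.2 ⟨isPi_fibKer_prime hn hπ hs, fun p hp hpπ => ?_⟩⟩
    rw [card_fibKer_memb, hs, Nat.factorial_one, one_mul,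
      ← Nat.mul_factorial_pred (show Fintype.card α ≠ 0 from hn.ne_zero),
      val_mul hn.ne_zero (Nat.factorial_ne_zero _), Nat.factorization_eq_zero_of_not_dvd fun hd => ?_]
    · omega
    · have := (Nat.prime_dvd_prime_iff_eq hp hn).1 hd
      exact absurd ((hπ p hp this.le).1 hpπ) (by omega)
  · rcases hn with hn | hn
    · rw [hn] at hπ
      obtain ⟨s, -, hs⟩ := Finset.exists_subset_card_eq (s := (Finset.univ : Finset α)) (n := 3)
        (by rw [Finset.card_univ]; omega)
      refine ⟨fibKer (memb s), hall_iff.2 ⟨isPi_fibKer_seven hn hπ hs, fun p hp hpπ => ?_⟩⟩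
      rw [card_fibKer_memb, hs, hn, show (7 : ℕ)! = 35 * (3 ! * (7 - 3)!) by rfl,
        val_mul (by norm_num) (by decide), Nat.factorization_eq_zero_of_not_dvd fun hd => ?_]
      · omega
      · have h7 : p ≤ 7 := by
          rcases hp.dvd_mul.1 (show p ∣ 5 * 7 from hd) with h | h <;>
            have := Nat.le_of_dvd (by norm_num) h <;> omega
        rcases (hπ p hp h7).1 hpπ with rfl | rfl <;> norm_num at hd
    · rw [hn] at hπ
      obtain ⟨s, -, hs⟩ := Finset.exists_subset_card_eq (s := (Finset.univ : Finset α)) (n := 4)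
        (by rw [Finset.card_univ]; omega)
      obtain ⟨h0, h1⟩ := nonempty_of_half hn hs
      refine ⟨respecting (memb s), hall_iff.2 ⟨isPi_respecting_eight hn hπ hs, fun p hp hpπ => ?_⟩⟩
      have hc : Nat.card (respecting (memb s)) = 1152 := by
        have h2 := card_respecting_dvd h0 h1
        have h3 := Subgroup.card_dvd_of_le (fibKer_le_respecting (memb s))
        rw [card_fibKer_memb] at h3
        rw [hs, hn] at h2 h3
        rw [show (4 : ℕ)! * (8 - 4)! = 576 by rfl] at h2 h3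
        obtain ⟨k, hk⟩ := h3
        rw [hk] at h2 ⊢
        have hk2 := Nat.dvd_of_mul_dvd_mul_left (show 0 < 576 by norm_num) h2
        rcases (Nat.dvd_prime Nat.prime_two).1 hk2 with rfl | rfl
        · exfalso
          obtain ⟨g, hg⟩ := exists_map_eq (s := s) (t := sᶜ) (by rw [Finset.card_compl]; omega)
          have heq : fibKer (memb s) = respecting (memb s) := by
            refine Subgroup.eq_of_le_of_card_ge (fibKer_le_respecting _) ?_
            rw [hk, card_fibKer_memb, hs, hn]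
            rfl
          have hgr : g ∈ respecting (memb s) := fun x y => by
            have hx := hg x
            have hy := hg y
            rw [Finset.mem_compl] at hx hy
            simp only [memb, decide_eq_decide]
            tauto
          obtain ⟨x, hx⟩ := h0
          rw [← heq] at hgr
          have h5 := hgr x
          have h6 := hg x
          rw [Finset.mem_compl] at h6
          simp only [memb, decide_eq_decide] at h5
          tauto
        · norm_num
      rw [hc, hn, show (8 : ℕ)! = 35 * 1152 by rfl, val_mul (by norm_num) (by norm_num),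
        Nat.factorization_eq_zero_of_not_dvd fun hd => ?_]
      · omega
      · have h8 : p ≤ 8 := by
          rcases hp.dvd_mul.1 (show p ∣ 5 * 7 from hd) with h | h <;>
            have := Nat.le_of_dvd (by norm_num) h <;> omega
        rcases (hπ p hp h8).1 hpπ with rfl | rfl <;> norm_num at hd

theorem trivial_of_not_two (h : ¬ TwoPrimes π (Fintype.card α)) :
    ∀ r s : ℕ, r.Prime → s.Prime → r ∈ π → s ∈ π →
      r ∣ Nat.card (Perm α) → s ∣ Nat.card (Perm α) → r = s := by
  intro r s hr hs hrπ hsπ hrd hsd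
  rw [natCard_perm] at hrd hsd
  by_contra hne
  exact h ⟨r, s, hr, hs, hne, hrπ, hsπ, hr.dvd_factorial.1 hrd, hs.dvd_factorial.1 hsd⟩

theorem cPi_perm_of_ePi (hE : Cfsg.IsEPiGroup π (Perm α)) : Cfsg.IsCPiGroup π (Perm α) := by
  by_cases h2 : TwoPrimes π (Fintype.card α)
  swap
  · exact (dPi_cPi_of_trivial (Or.inl (trivial_of_not_two h2))).2
  by_cases hall : AllUpTo π (Fintype.card α)
  · refine (dPi_cPi_of_trivial (Or.inr fun r hr hd => hall r hr ?_)).2
    rw [natCard_perm] at hd
    exact hr.dvd_factorial.1 hd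
  exact ⟨hE, fun H K hH hK => conj_of_shape hH hK ((classify hH h2).resolve_left hall)
    ((classify hK h2).resolve_left hall)⟩

/-- The criterion of Hall for symmetric groups. -/
theorem ePi_iff (h2 : TwoPrimes π (Fintype.card α)) (hall : ¬ AllUpTo π (Fintype.card α)) :
    Cfsg.IsEPiGroup π (Perm α) ↔ Exceptional π (Fintype.card α) :=
  ⟨fun ⟨_, hH⟩ => ((classify hH h2).resolve_left hall).exceptional, ePi_of_exceptional⟩

/-- Hall subgroups of the alternating group are traces of Hall subgroups. -/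
theorem exists_hall_over {M : Subgroup (alternatingGroup α)} (hM : Cfsg.IsPiHall π M) :
    ∃ L : Subgroup (Perm α), Cfsg.IsPiHall π L ∧ M = L.subgroupOf (alternatingGroup α) := by
  suffices h : ∃ L : Subgroup (Perm α), Cfsg.IsPiHall π L ∧ M.map (Subgroup.subtype _) ≤ L by
    obtain ⟨L, hL, hle⟩ := h
    refine ⟨L, hL, eq_of_hall_le hM (fun x hx => hle ⟨x, hx, rfl⟩) (hall_subgroupOf_normal hL).1⟩
  have hA : (alternatingGroup α).index ∣ 2 := by
    rcases subsingleton_or_nontrivial α with h | h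
    · have : Subsingleton (Perm α) := ⟨fun a b => Equiv.ext fun x => Subsingleton.elim _ _⟩
      rw [Subgroup.index_eq_one.2 (Subsingleton.elim _ _)]
      exact one_dvd 2
    · rw [alternatingGroup.index_eq_two]
  have hcard : Nat.card (M.map (alternatingGroup α).subtype) = Nat.card M :=
    Subgroup.card_map_of_injective (alternatingGroup α).subtype_injective
  by_cases h2π : 2 ∈ π
  · refine exists_hall_above h2π ⟨fun p hp hd => hM.1 p hp (hcard ▸ hd), fun p hp hpπ => ?_⟩
      (Subgroup.map_subtype_le M)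
    have h1 : (Fintype.card α)! = Nat.card M * M.index * (alternatingGroup α).index := by
      rw [M.card_mul_index, (alternatingGroup α).card_mul_index, natCard_perm]
    rw [hcard, h1, val_mul (mul_ne_zero Nat.card_pos.ne' Subgroup.index_ne_zero_of_finite)
      Subgroup.index_ne_zero_of_finite, val_mul Nat.card_pos.ne' Subgroup.index_ne_zero_of_finite,
      Nat.factorization_eq_zero_of_not_dvd (hM.2 p hp hpπ)]
    have h3 := val_le_of_dvd (p := p) two_ne_zero hA
    rw [Nat.prime_two.factorization] at h3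
    by_cases hp2 : p = 2
    · subst hp2
      simp only [Finsupp.single_eq_same, if_true] at h3 ⊢
      omega
    · rw [Finsupp.single_eq_of_ne hp2] at h3
      omega
  · refine ⟨M.map (alternatingGroup α).subtype, ⟨fun p hp hd => hM.1 p hp (hcard ▸ hd),
      fun p hp hpπ hd => ?_⟩, le_rfl⟩
    rw [Subgroup.index_map_subtype, hp.dvd_mul] at hd
    rcases hd with hd | hd
    · exact hM.2 p hp hpπ hd
    · exact h2π ((Nat.prime_dvd_prime_iff_eq hp Nat.prime_two).1 (hd.trans hA) ▸ hpπ)

theorem ePi_alt_iff :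
    Cfsg.IsEPiGroup π (Perm α) ↔ Cfsg.IsEPiGroup π (alternatingGroup α) :=
  ⟨fun ⟨_, hL⟩ => ⟨_, hall_subgroupOf_normal hL⟩, fun ⟨_, hM⟩ =>
    (exists_hall_over hM).imp fun _ h => h.1⟩

theorem cPi_alt_of_ePi (hE : Cfsg.IsEPiGroup π (alternatingGroup α)) :
    Cfsg.IsCPiGroup π (alternatingGroup α) := by
  have hdvd : ∀ r : ℕ, r.Prime → r ∣ Nat.card (alternatingGroup α) → r ≤ Fintype.card α := by
    intro r hr hd
    have := hd.trans (Subgroup.card_subgroup_dvd_card _)
    rw [natCard_perm] at this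
    exact hr.dvd_factorial.1 this
  by_cases hall : AllUpTo π (Fintype.card α)
  · exact (dPi_cPi_of_trivial (Or.inr fun r hr hd => hall r hr (hdvd r hr hd))).2
  by_cases h2 : TwoPrimes π (Fintype.card α)
  swap
  · refine (dPi_cPi_of_trivial (Or.inl fun r s hr hs hrπ hsπ hrd hsd => ?_)).2
    by_contra hne
    exact h2 ⟨r, s, hr, hs, hne, hrπ, hsπ, hdvd r hr hrd, hdvd s hs hsd⟩
  have hn : 3 ≤ Fintype.card α := by
    obtain ⟨r, s, hr, hs, hrs, -, -, hrn, hsn⟩ := h2
    have := hr.two_le; have := hs.two_le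
    omega
  have h2π : 2 ∈ π := by
    obtain ⟨L, hL⟩ := ePi_alt_iff.2 hE
    obtain ⟨-, h⟩ | ⟨h', h⟩ := ((classify hL h2).resolve_left hall).exceptional
    · exact (h 2 Nat.prime_two (by omega)).2 (by omega)
    · exact (h 2 Nat.prime_two (by omega)).2 (Or.inl rfl)
  refine ⟨hE, fun M₁ M₂ h₁ h₂ => ?_⟩
  obtain ⟨L₁, hL₁, rfl⟩ := exists_hall_over h₁
  obtain ⟨L₂, hL₂, rfl⟩ := exists_hall_over h₂
  obtain ⟨g, hg⟩ := (cPi_perm_of_ePi ⟨L₁, hL₁⟩).2 L₁ L₂ hL₁ hL₂
  obtain ⟨h, hh, hhA⟩ := SetLike.not_le_iff_exists.1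
    (not_le_alternatingGroup_of_large (large_of_hall hL₂) h2π (by omega))
  obtain ⟨g', hg'A, hg'⟩ : ∃ g' ∈ alternatingGroup α,
      L₂ = L₁.map (MulAut.conj g').toMonoidHom := by
    by_cases hgA : g ∈ alternatingGroup α
    · exact ⟨g, hgA, hg⟩
    refine ⟨h * g, ?_, ?_⟩
    · rw [Perm.mem_alternatingGroup] at hgA hhA ⊢
      rw [map_mul, (Int.units_eq_one_or _).resolve_left hgA,
        (Int.units_eq_one_or _).resolve_left hhA]
      rfl
    · refine SetLike.ext fun x => ?_
      rw [Subgroup.mem_map_equiv, MulAut.conj_symm_apply, hg]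
      constructor
      · intro hx
        obtain ⟨y, hy, hy'⟩ : h⁻¹ * x * h ∈ L₁.map (MulAut.conj g).toMonoidHom := by
          rw [← hg]
          rw [← hg] at hx
          exact L₂.mul_mem (L₂.mul_mem (L₂.inv_mem hh) hx) hh
        have : y = (h * g)⁻¹ * x * (h * g) := by
          simp only [MulEquiv.coe_toMonoidHom, MulAut.conj_apply] at hy'
          rw [mul_inv_rev, show y = g⁻¹ * (g * y * g⁻¹) * g by group, hy']
          group
        rwa [← this]
      · intro hx
        have h1 : h⁻¹ * x * h ∈ L₂ := by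
          rw [hg]
          exact ⟨_, hx, by simp [mul_assoc]⟩
        rw [← hg]
        simpa [mul_assoc] using L₂.mul_mem (L₂.mul_mem hh h1) (L₂.inv_mem hh)
  refine ⟨⟨g', hg'A⟩, SetLike.ext fun x => ?_⟩
  rw [Subgroup.mem_subgroupOf, hg', Subgroup.mem_map_equiv, Subgroup.mem_map_equiv,
    Subgroup.mem_subgroupOf]
  rfl

end symmetric

end CfsgLib.HallSym
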