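import Cfsg.Agent.Lib.HallSym.Main

/-!
Alternating groups fail the full Sylow analogue outside the trivial cases.
-/

set_option autoImplicit false
set_option linter.style.haveILetI false
set_option linter.unusedSectionVars false

open Equiv
open scoped Nat

namespace CfsgLib.HallSym

universe u

variable {α : Type u} [Fintype α] [DecidableEq α] {π : Set ℕ}

/-- A `π`-subgroup of even permutations contained in no Hall subgroup. -/
theorem exists_outside_prime (hn : (Fintype.card α).Prime) (h5 : 5 ≤ Fintype.card α)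
    (hπ : ∀ r : ℕ, r.Prime → r ≤ Fintype.card α → (r ∈ π ↔ r < Fintype.card α)) :
    ∃ K : Subgroup (Perm α), Cfsg.IsPiSubgroup π K ∧ K ≤ alternatingGroup α ∧
      ∀ L : Subgroup (Perm α), Shape π L → ¬ K ≤ L := by
  obtain ⟨t, -, ht⟩ := Finset.exists_subset_card_eq (s := (Finset.univ : Finset α)) (n := 3)
    (by rw [Finset.card_univ]; omega)
  refine ⟨alternatingGroup α ⊓ fibKer (memb t), fun p hp hd => ?_, inf_le_left, ?_⟩
  · have := hd.trans (Subgroup.card_dvd_of_le inf_le_right)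
    rw [card_fibKer_memb, ht, hp.dvd_mul] at this
    simp only [hp.dvd_factorial] at this
    exact (hπ p hp (by omega)).2 (by omega)
  rintro L ⟨s, ⟨-, -, hs, hle⟩ | ⟨h7, hπ', -, -⟩ | ⟨h8, -, -, -⟩⟩ hKL
  · obtain ⟨i, rfl⟩ := Finset.card_eq_one.1 hs
    have key : ∀ i j k l : α, i ≠ j → k ≠ l → i ≠ k → i ≠ l → (i ∈ t ↔ j ∈ t) → (k ∈ t ↔ l ∈ t) →
        swap i j * swap k l ∈ alternatingGroup α ⊓ fibKer (memb t) ∧
          (swap i j * swap k l) i = j := by
      intro i j k l hij hkl hik hil h1 h2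
      refine ⟨⟨?_, fun x => ?_⟩, ?_⟩
      · refine Perm.mem_alternatingGroup.2 ?_
        rw [map_mul, Perm.sign_swap hij, Perm.sign_swap hkl]
        rfl
      · have hsw : ∀ a b : α, (a ∈ t ↔ b ∈ t) → ∀ y, swap a b y ∈ t ↔ y ∈ t := by
          intro a b hab y
          rw [Equiv.swap_apply_def]
          split_ifs with ha hb
          · subst ha; exact hab.symm
          · subst hb; exact hab
          · rfl
        exact decide_eq_decide.2 ((hsw i j h1 _).trans (hsw k l h2 x))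
      · rw [Perm.mul_apply, Equiv.swap_apply_of_ne_of_ne hik hil, Equiv.swap_apply_left]
    obtain ⟨j, hij, k, l, hkl, hik, hil, h1, h2⟩ : ∃ j, i ≠ j ∧ ∃ k l, k ≠ l ∧ i ≠ k ∧ i ≠ l ∧
        (i ∈ t ↔ j ∈ t) ∧ (k ∈ t ↔ l ∈ t) := by
      have htc : 1 < tᶜ.card := by rw [Finset.card_compl]; omega
      have ht' : 1 < t.card := by omega
      by_cases hi : i ∈ t
      · obtain ⟨k, hk, l, hl, hkl⟩ := Finset.one_lt_card.1 htc
        obtain ⟨j, hj, hji⟩ := Finset.exists_mem_ne ht' i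
        rw [Finset.mem_compl] at hk hl
        exact ⟨j, hji.symm, k, l, hkl, by rintro rfl; exact hk hi, by rintro rfl; exact hl hi,
          iff_of_true hi hj, iff_of_false hk hl⟩
      · obtain ⟨k, hk, l, hl, hkl⟩ := Finset.one_lt_card.1 ht'
        obtain ⟨j, hj, hji⟩ := Finset.exists_mem_ne htc i
        rw [Finset.mem_compl] at hj
        exact ⟨j, hji.symm, k, l, hkl, by rintro rfl; exact hi hk, by rintro rfl; exact hi hl,
          iff_of_false hi hj, iff_of_true hk hl⟩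
    obtain ⟨hmem, happ⟩ := key i j k l hij hkl hik hil h1 h2
    have h := hle (hKL hmem) i
    rw [happ] at h
    simp [memb] at h
    exact hij h.symm
  · have := (hπ' 5 (by norm_num) (by norm_num)).1 ((hπ 5 (by norm_num) (by omega)).2 (by omega))
    omega
  · rw [h8] at hn; norm_num at hn

def genA7 : List (Perm (Fin 7)) :=
  [swap 0 1 * swap 2 3, swap 0 4 * swap 0 2 * (swap 1 5 * swap 1 3)]

def genA8 : List (Perm (Fin 8)) :=
  [swap 0 1 * swap 2 3, swap 0 4 * swap 0 2 * (swap 1 5 * swap 1 3)]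

def pairsSeven : Fin 7 → Fin 4 := fun x => ⟨x.val / 2, by omega⟩

def pairsEight : Fin 8 → Fin 4 := fun x => ⟨x.val / 2, by omega⟩

theorem genA7_sign : ∀ g ∈ genA7, Perm.sign g = 1 := by
  intro g hg
  simp only [genA7, List.mem_cons, List.not_mem_nil, or_false] at hg
  rcases hg with rfl | rfl <;> simp [Perm.sign_swap']

theorem genA8_sign : ∀ g ∈ genA8, Perm.sign g = 1 := by
  intro g hg
  simp only [genA8, List.mem_cons, List.not_mem_nil, or_false] at hg
  rcases hg with rfl | rfl <;> simp [Perm.sign_swap']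

set_option maxRecDepth 100000 in
theorem genA7_resp : ∀ g ∈ genA7, ∀ x y, pairsSeven (g x) = pairsSeven (g y) ↔
    pairsSeven x = pairsSeven y := by
  intro g hg
  simp only [genA7, List.mem_cons, List.not_mem_nil, or_false] at hg
  rcases hg with rfl | rfl <;> decide +kernel

set_option maxRecDepth 100000 in
theorem genA8_resp : ∀ g ∈ genA8, ∀ x y, pairsEight (g x) = pairsEight (g y) ↔
    pairsEight x = pairsEight y := by
  intro g hg
  simp only [genA8, List.mem_cons, List.not_mem_nil, or_false] at hg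
  rcases hg with rfl | rfl <;> decide +kernel

theorem genA7_orbit {s : Finset (Fin 7)} (h : ∀ g ∈ genA7, ∀ x, g x ∈ s ↔ x ∈ s) :
    ({0, 1, 2, 3, 4, 5} : Finset (Fin 7)) ⊆ s ∨ s ⊆ {6} := by
  have h1 := h (swap 0 1 * swap 2 3) (by simp [genA7])
  have h2 := h (swap 0 4 * swap 0 2 * (swap 1 5 * swap 1 3)) (by simp [genA7])
  have e1 := h1 0
  rw [show (swap 0 1 * swap 2 3 : Perm (Fin 7)) 0 = 1 by decide] at e1
  have e2 := h2 0
  have e3 := h2 2
  have e4 := h2 1
  have e5 := h2 3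
  rw [show (swap 0 4 * swap 0 2 * (swap 1 5 * swap 1 3) : Perm (Fin 7)) 0 = 2 by decide] at e2
  rw [show (swap 0 4 * swap 0 2 * (swap 1 5 * swap 1 3) : Perm (Fin 7)) 2 = 4 by decide] at e3
  rw [show (swap 0 4 * swap 0 2 * (swap 1 5 * swap 1 3) : Perm (Fin 7)) 1 = 3 by decide] at e4
  rw [show (swap 0 4 * swap 0 2 * (swap 1 5 * swap 1 3) : Perm (Fin 7)) 3 = 5 by decide] at e5
  by_cases h0 : (0 : Fin 7) ∈ s
  · left
    intro x hx
    fin_cases hx <;> tauto
  · right
    intro x hx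
    rw [Finset.mem_singleton]
    fin_cases x <;> simp only [Fin.reduceFinMk] at hx ⊢ <;> exfalso <;> tauto

theorem genA8_orbit {s : Finset (Fin 8)} (h : ∀ g ∈ genA8, ∀ x, g x ∈ s ↔ x ∈ s) :
    ({0, 1, 2, 3, 4, 5} : Finset (Fin 8)) ⊆ s ∨ s ⊆ {6, 7} := by
  have h1 := h (swap 0 1 * swap 2 3) (by simp [genA8])
  have h2 := h (swap 0 4 * swap 0 2 * (swap 1 5 * swap 1 3)) (by simp [genA8])
  have e1 := h1 0
  rw [show (swap 0 1 * swap 2 3 : Perm (Fin 8)) 0 = 1 by decide] at e1
  have e2 := h2 0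
  have e3 := h2 2
  have e4 := h2 1
  have e5 := h2 3
  rw [show (swap 0 4 * swap 0 2 * (swap 1 5 * swap 1 3) : Perm (Fin 8)) 0 = 2 by decide] at e2
  rw [show (swap 0 4 * swap 0 2 * (swap 1 5 * swap 1 3) : Perm (Fin 8)) 2 = 4 by decide] at e3
  rw [show (swap 0 4 * swap 0 2 * (swap 1 5 * swap 1 3) : Perm (Fin 8)) 1 = 3 by decide] at e4
  rw [show (swap 0 4 * swap 0 2 * (swap 1 5 * swap 1 3) : Perm (Fin 8)) 3 = 5 by decide] at e5
  by_cases h0 : (0 : Fin 8) ∈ s
  · left
    intro x hx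
    fin_cases hx <;> tauto
  · right
    intro x hx
    fin_cases x <;> simp only [Fin.reduceFinMk] at hx ⊢ <;> first | (exfalso; tauto) | simp

theorem isPi_of_respecting {ι : Type*} [Fintype ι] [DecidableEq ι] {f : α → ι}
    (hf : Function.Surjective f) {K : Subgroup (Perm α)} (hK : K ≤ respecting f) (hι : Fintype.card ι ≤ 4)
    (hfib : ∀ i, Fintype.card {x // f x = i} ≤ 4) (hπ : 2 ∈ π ∧ 3 ∈ π) :
    Cfsg.IsPiSubgroup π K := fun p hp hd => by
  have hd' := hd.trans (card_dvd_of_respecting hf hK)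
  have hp4 : p ≤ 4 := by
    rcases hp.dvd_mul.1 hd' with h | h
    · obtain ⟨i, -, hi⟩ := (hp.prime.dvd_finsetProd_iff _).1 h
      have := hp.dvd_factorial.1 (hi.trans (card_fibGroup_dvd_factorial K f i))
      have := hfib i
      omega
    · have := hp.dvd_factorial.1 (h.trans (card_blockImage_dvd_factorial K f hf))
      omega
  rcases prime_le_four hp hp4 with rfl | rfl
  · exact hπ.1
  · exact hπ.2

theorem exists_outside_seven (hπ : ∀ r : ℕ, r.Prime → r ≤ 7 → (r ∈ π ↔ (r = 2 ∨ r = 3))) :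
    ∃ K : Subgroup (Perm (Fin 7)), Cfsg.IsPiSubgroup π K ∧ K ≤ alternatingGroup (Fin 7) ∧
      ∀ L : Subgroup (Perm (Fin 7)), Shape π L → ¬ K ≤ L := by
  refine ⟨Subgroup.closure {g | g ∈ genA7}, ?_, ?_, ?_⟩
  · refine isPi_of_respecting (f := pairsSeven) (by decide) ((Subgroup.closure_le _).2 fun g hg => genA7_resp g hg)
      (by simp) (by decide +kernel) ⟨(hπ 2 Nat.prime_two (by norm_num)).2 (Or.inl rfl),
        (hπ 3 Nat.prime_three (by norm_num)).2 (Or.inr rfl)⟩
  · exact (Subgroup.closure_le _).2 fun g hg => Perm.mem_alternatingGroup.2 (genA7_sign g hg)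
  rintro L ⟨s, ⟨-, hπ', -, -⟩ | ⟨-, -, hs, hle⟩ | ⟨h, -⟩⟩ hKL
  · have h5 := (hπ' 5 (by norm_num) (by simp)).2 (by simp)
    have := (hπ 5 (by norm_num) (by norm_num)).1 h5
    omega
  · have h : ∀ g ∈ genA7, ∀ x, g x ∈ s ↔ x ∈ s := fun g hg x => by
      have := hle (hKL (Subgroup.subset_closure hg)) x
      simpa [memb] using this
    rcases genA7_orbit h with h1 | h1
    · have := Finset.card_le_card h1
      simp [hs] at this
    · have := Finset.card_le_card h1
      simp [hs] at this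
  · simp at h

theorem exists_outside_eight (hπ : ∀ r : ℕ, r.Prime → r ≤ 8 → (r ∈ π ↔ (r = 2 ∨ r = 3))) :
    ∃ K : Subgroup (Perm (Fin 8)), Cfsg.IsPiSubgroup π K ∧ K ≤ alternatingGroup (Fin 8) ∧
      ∀ L : Subgroup (Perm (Fin 8)), Shape π L → ¬ K ≤ L := by
  refine ⟨Subgroup.closure {g | g ∈ genA8}, ?_, ?_, ?_⟩
  · refine isPi_of_respecting (f := pairsEight) (by decide) ((Subgroup.closure_le _).2 fun g hg => genA8_resp g hg)
      (by simp) (by decide +kernel) ⟨(hπ 2 Nat.prime_two (by norm_num)).2 (Or.inl rfl),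
        (hπ 3 Nat.prime_three (by norm_num)).2 (Or.inr rfl)⟩
  · exact (Subgroup.closure_le _).2 fun g hg => Perm.mem_alternatingGroup.2 (genA8_sign g hg)
  rintro L ⟨s, ⟨h, -⟩ | ⟨h, -⟩ | ⟨-, -, hs, hle⟩⟩ hKL
  · norm_num at h
  · simp at h
  · have h : ∀ g ∈ genA8, ∀ x, g x ∈ s ↔ x ∈ s := fun g hg x => by
      have := hle (hKL (Subgroup.subset_closure hg)) x 6
      have hg6 : g 6 = 6 := by
        simp only [genA8, List.mem_cons, List.not_mem_nil, or_false] at hg
        rcases hg with rfl | rfl <;> decide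
      simp only [memb, decide_eq_decide, hg6] at this
      tauto
    rcases genA8_orbit h with h1 | h1
    · have := Finset.card_le_card h1
      simp [hs] at this
    · have := Finset.card_le_card h1
      simp [hs] at this

theorem index_map_conj {G : Type*} [Group G] (M : Subgroup G) (g : G) :
    (M.map (MulAut.conj g).toMonoidHom).index = M.index :=
  Subgroup.index_map_equiv M (MulAut.conj g)

theorem hall_map_equiv {G G' : Type*} [Group G] [Group G'] {L : Subgroup G}
    (hL : Cfsg.IsPiHall π L) (e : G ≃* G') : Cfsg.IsPiHall π (L.map e.toMonoidHom) := by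
  refine ⟨fun p hp hd => hL.1 p hp ?_, fun p hp hpπ hd => hL.2 p hp hpπ ?_⟩
  · rwa [Subgroup.card_map_of_injective (f := e.toMonoidHom) e.injective] at hd
  · rwa [show (L.map e.toMonoidHom).index = L.index from Subgroup.index_map_equiv L e] at hd

/-- The full Sylow analogue in an alternating group. -/
theorem dPi_alt_iff {n : ℕ} (hn : 5 ≤ n) :
    Cfsg.IsDPiGroup π (alternatingGroup (Fin n)) ↔
      ((∀ r s : ℕ, r.Prime → s.Prime → r ∈ π → s ∈ π →
          r ∣ Nat.card (alternatingGroup (Fin n)) → s ∣ Nat.card (alternatingGroup (Fin n)) → r = s) ∨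
        ∀ r : ℕ, r.Prime → r ∣ Nat.card (alternatingGroup (Fin n)) → r ∈ π) := by
  refine ⟨fun hD => ?_, fun h => (dPi_cPi_of_trivial h).1⟩
  by_contra! hne
  obtain ⟨⟨r, s, hr, hs, hrπ, hsπ, hrd, hsd, hrs⟩, q, hq, hqd, hqπ⟩ := hne
  set A := alternatingGroup (Fin n)
  -- a Hall subgroup
  have hexist : Cfsg.IsEPiGroup π A := by
    obtain ⟨M, -, hM⟩ := exists_le_maximal_pi (G := A) (π := π) (U := ⊥) (fun p hp hd => by
      rw [Subgroup.card_bot] at hd
      exact absurd hd hp.not_dvd_one)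
    refine ⟨M, hM.1, fun p hp hpπ hd => ?_⟩
    haveI := Fact.mk hp
    obtain ⟨P⟩ : Nonempty (Sylow p A) := inferInstance
    obtain ⟨M', hPM, hM'⟩ := exists_le_maximal_pi (G := A) (π := π) (U := (P : Subgroup A))
      (fun t ht hd => by
        obtain ⟨k, hk⟩ := IsPGroup.iff_card.1 P.isPGroup'
        rw [hk] at hd
        rwa [(Nat.prime_dvd_prime_iff_eq ht hp).1 (ht.dvd_of_dvd_pow hd)])
    obtain ⟨g, rfl⟩ := hD M M' hM hM'
    refine P.not_dvd_index (hd.trans ?_)
    have h1 : (M.map (MulAut.conj g).toMonoidHom).index = M.index :=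
      index_map_conj M g
    exact h1 ▸ Subgroup.index_dvd_of_le hPM
  have hle : ∀ t : ℕ, t.Prime → t ∣ Nat.card A → t ≤ Fintype.card (Fin n) := fun t ht hd => by
    have := hd.trans (Subgroup.card_subgroup_dvd_card _)
    rw [natCard_perm] at this
    exact ht.dvd_factorial.1 this
  have h2 : TwoPrimes π (Fintype.card (Fin n)) :=
    ⟨r, s, hr, hs, hrs, hrπ, hsπ, hle r hr hrd, hle s hs hsd⟩
  have hall : ¬ AllUpTo π (Fintype.card (Fin n)) := fun h => hqπ (h q hq (hle q hq hqd))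
  obtain ⟨L₀, hL₀⟩ := ePi_alt_iff.2 hexist
  have hexc := ((classify hL₀ h2).resolve_left hall).exceptional
  -- a subgroup outside every Hall subgroup
  obtain ⟨K, hKπ, hKA, hKout⟩ : ∃ K : Subgroup (Perm (Fin n)), Cfsg.IsPiSubgroup π K ∧
      K ≤ A ∧ ∀ L : Subgroup (Perm (Fin n)), Shape π L → ¬ K ≤ L := by
    rcases hexc with ⟨hp, hπ⟩ | ⟨h78, hπ⟩
    · exact exists_outside_prime hp (by simpa using hn) hπ
    · rw [Fintype.card_fin] at h78 hπ
      rcases h78 with rfl | rfl
      · exact exists_outside_seven hπ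
      · exact exists_outside_eight hπ
  have hcard : Nat.card (K.subgroupOf A) = Nat.card K :=
    Nat.card_congr (Subgroup.subgroupOfEquivOfLe hKA).toEquiv
  obtain ⟨M', hKM, hM'⟩ := exists_le_maximal_pi (G := A) (π := π) (U := K.subgroupOf A)
    (fun p hp hd => hKπ p hp (hcard ▸ hd))
  obtain ⟨M, hM⟩ := hexist
  obtain ⟨g, hg⟩ := hD M M' (maximal_of_hall hM) hM'
  obtain ⟨L, hL, rfl⟩ := exists_hall_over hM
  have hL' : Cfsg.IsPiHall π (L.map (MulAut.conj (g : Perm (Fin n))).toMonoidHom) :=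
    hall_map_equiv hL _
  refine hKout _ ((classify hL' h2).resolve_left hall) fun x hx => ?_
  have h3 := hKM (show (⟨x, hKA hx⟩ : A) ∈ K.subgroupOf A from hx)
  rw [hg] at h3
  obtain ⟨y, hy, hy'⟩ := h3
  exact ⟨y, hy, congrArg Subtype.val hy'⟩

end CfsgLib.HallSym
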