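import Cfsg.Agent.Lib.HallSym.Arith
import Cfsg.Agent.Lib.HallSym.Basic
import Cfsg.Agent.Lib.Perm.JordanCycle
import Cfsg.Agent.Lib.Perm.PrimeDegree
import Cfsg.Agent.Lib.Chars.Burnside

/-!
Transitive large `π`-subgroups of symmetric groups.
-/

set_option autoImplicit false
set_option linter.style.haveILetI false
set_option linter.unusedSectionVars false

open Equiv MulAction
open scoped Nat Pointwise

namespace CfsgLib.HallSym

variable {α : Type*} [Fintype α] [DecidableEq α] {π : Set ℕ}

/-- A large subgroup contains a cycle of each relevant prime length. -/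
theorem exists_cycle_mem {K : Subgroup (Perm α)} {e : ℕ} (hK : Large π e K) {p : ℕ} (hp : p.Prime)
    (hpπ : p ∈ π) (hpn : p ≤ Fintype.card α) (he : p ≠ 2 ∨ e = 0) :
    ∃ g ∈ K, g.IsCycle ∧ g.support.card = p := by
  haveI := Fact.mk hp
  obtain ⟨P⟩ : Nonempty (Sylow p K) := inferInstance
  have hPcard : Nat.card ((P : Subgroup K).map K.subtype) =
      p ^ (Nat.card (Perm α)).factorization p := by
    rw [Subgroup.card_map_of_injective K.subtype_injective, P.card_eq_multiplicity, natCard_perm]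
    congr 1
    have h1 := hK.2 p hp hpπ
    have h2 := hK.val_le p
    split_ifs at h1 <;> omega
  obtain ⟨c, hc⟩ : ∃ c : Perm α, c.cycleType = {p} :=
    (Equiv.Perm.exists_with_cycleType_iff α).2 ⟨by simpa using hpn, by simpa using hp.two_le⟩
  have hcyc : c.IsCycle := Perm.card_cycleType_eq_one.1 (by rw [hc]; simp)
  have hsupp : c.support.card = p := by rw [← Perm.sum_cycleType, hc]; simp
  have hord : orderOf c = p := hcyc.orderOf.trans hsupp
  have hpg : IsPGroup p (Subgroup.zpowers c) :=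
    IsPGroup.of_card (n := 1) (by rw [Nat.card_zpowers, hord, pow_one])
  obtain ⟨Q, hQ⟩ := hpg.exists_le_sylow
  let P' : Sylow p (Perm α) := Sylow.ofCard _ hPcard
  obtain ⟨u, hu⟩ := MulAction.exists_smul_eq (Perm α) Q P'
  have hmem : u * c * u⁻¹ ∈ (P' : Subgroup (Perm α)) := by
    rw [← hu, Sylow.coe_subgroup_smul, Subgroup.mem_pointwise_smul_iff_inv_smul_mem,
      MulAut.smul_def, ← map_inv, MulAut.conj_apply]
    simpa [mul_assoc] using hQ (Subgroup.mem_zpowers c)
  refine ⟨u * c * u⁻¹, ?_, hcyc.conj, by rw [Perm.support_conj, Finset.card_map, hsupp]⟩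
  rw [Sylow.coe_ofCard] at hmem
  exact Subgroup.map_subtype_le _ hmem

/-- Jordan: a primitive group with a cycle of prime length fixing two points is triply
transitive. -/
theorem three_pretransitive {G : Subgroup (Perm α)} (hG : IsPreprimitive G α) {p : ℕ}
    (hp : p.Prime) (hpn : p + 2 = Fintype.card α) (hp3 : 3 ≤ p) {g : Perm α} (hgc : g.IsCycle)
    (hgp : g.support.card = p) (hg : g ∈ G) : IsMultiplyPretransitive G α 3 := by
  haveI := Fact.mk hp
  have htr := Perm.isPretransitive_of_isCycle_mem hgc hg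
  have hsub : IsPreprimitive (fixingSubgroup G (g.support : Set α)ᶜ)
      (SubMulAction.ofFixingSubgroup G (g.support : Set α)ᶜ) := by
    refine IsPreprimitive.of_prime_card ?_
    have : Nat.card (SubMulAction.ofFixingSubgroup G (g.support : Set α)ᶜ) = p := by
      classical
      rw [Nat.card_eq_fintype_card, Fintype.card_subtype, ← hgp]
      congr 1
      ext x
      simp [SubMulAction.mem_ofFixingSubgroup_iff]
    rwa [this]
  exact (hG.isMultiplyPreprimitive (s := (g.support : Set α)ᶜ) (n := 1)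
    (by rw [← Finset.coe_compl, Set.ncard_coe_finset, Finset.card_compl, hgp]; omega)
    (by rw [Nat.card_eq_fintype_card]; omega) hsub).isMultiplyPretransitive

theorem descFactorial_dvd_of_three {G : Subgroup (Perm α)} (h : IsMultiplyPretransitive G α 3)
    (h3 : 3 ≤ Fintype.card α) :
    Fintype.card α * (Fintype.card α - 1) * (Fintype.card α - 2) ∣ Nat.card G := by
  obtain ⟨x⟩ : Nonempty (Fin 3 ↪ α) :=
    Function.Embedding.nonempty_of_card_le (by simpa using h3)
  haveI : IsPretransitive G (Fin 3 ↪ α) := h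
  have hd := Subgroup.index_dvd_card (stabilizer G x)
  rw [@index_stabilizer_of_transitive G (Fin 3 ↪ α) _ _ x h, Nat.card_eq_fintype_card,
    Fintype.card_embedding_eq,
    Fintype.card_fin] at hd
  simpa [Nat.descFactorial, mul_assoc, mul_comm, mul_left_comm] using hd

theorem card_dvd_of_transitive (G : Subgroup (Perm α)) [IsPretransitive G α] [Nonempty α] :
    Fintype.card α ∣ Nat.card G := by
  obtain ⟨a⟩ := ‹Nonempty α›
  have hd := Subgroup.index_dvd_card (stabilizer G a)
  rwa [index_stabilizer_of_transitive, Nat.card_eq_fintype_card] at hd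

/-- Doubling modulo five. -/
def doubleFive : Perm (ZMod 5) := ⟨fun j => 2 * j, fun j => 3 * j, by decide, by decide⟩

theorem sign_doubleFive : Perm.sign doubleFive = -1 := by decide

theorem two_ne_zero_five : (2 : ZMod 5) ≠ 0 := by decide

/-- A solvable transitive group of prime degree `p` has order at most `p (p - 1)`; equality in
degree five forces an odd permutation. -/
theorem solvable_prime_degree {G : Subgroup (Perm α)} {p : ℕ} [Fact p.Prime]
    (hα : Fintype.card α = p) [IsPretransitive G α] (hsolv : Group.IsSolvable G) :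
    Nat.card G ≤ p * (p - 1) ∧
      (p = 5 → 20 ≤ Nat.card G → ¬ G ≤ alternatingGroup α) := by
  classical
  obtain ⟨σ, e, hσ, he⟩ := CfsgLib.Perm.exists_coord (G := G) hα
  have haff : ∀ g : G, ∃ ab : (ZMod p)ˣ × ZMod p, ∀ j, g • e j = e ((ab.1 : ZMod p) * j + ab.2) := by
    intro g
    obtain ⟨A, B, hAB⟩ := CfsgLib.Perm.affine_of_isSolvable hα hsolv hσ he g
    have hA : A ≠ 0 := fun h => zero_ne_one (e.injective (MulAction.injective g
      (show g • e 0 = g • e 1 by rw [hAB, hAB, h, zero_mul, zero_mul])))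
    exact ⟨(Units.mk0 A hA, B), hAB⟩
  choose ab hab using haff
  have hinj : Function.Injective ab := fun g₁ g₂ h => Subtype.ext (Equiv.ext fun x => by
    obtain ⟨j, rfl⟩ := e.surjective x
    exact (hab g₁ j).trans (by rw [h]; exact (hab g₂ j).symm))
  have hcard : Nat.card ((ZMod p)ˣ × ZMod p) = p * (p - 1) := by
    rw [Nat.card_prod, Nat.card_zmod, Nat.card_eq_fintype_card, ZMod.card_units_eq_totient,
      Nat.totient_prime Fact.out, mul_comm]
  refine ⟨hcard ▸ Nat.card_le_card_of_injective ab hinj, ?_⟩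
  rintro rfl h20 hle
  have hbij : Function.Bijective ab := (Nat.bijective_iff_injective_and_card ab).2 ⟨hinj, le_antisymm
    (Nat.card_le_card_of_injective ab hinj) (by rw [hcard]; exact h20)⟩
  obtain ⟨g, hg⟩ := hbij.2 (Units.mk0 2 two_ne_zero_five, 0)
  have hgπ : (g : Perm α) = e.permCongr doubleFive := Equiv.ext fun x => by
    obtain ⟨j, rfl⟩ := e.surjective x
    have := hab g j
    rw [hg] at this
    simpa [doubleFive, Equiv.permCongr_apply, Subgroup.smul_def] using this
  have h1 := Perm.mem_alternatingGroup.1 (hle g.2)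
  rw [hgπ, Perm.sign_permCongr, sign_doubleFive] at h1
  exact absurd h1 (by decide)

theorem two_val_bound (m : ℕ) : m + m / 2 + m / 4 ≤ ((2 * m)!).factorization 2 := by
  haveI := Fact.mk Nat.prime_two
  rw [Nat.factorization_def _ Nat.prime_two, padicValNat_factorial_mul]
  have h1 : m / 2 + m / 4 ≤ padicValNat 2 m ! := by
    rw [← Nat.factorization_def _ Nat.prime_two]
    have h2 : (2 * (m / 2))! ∣ m ! := Nat.factorial_dvd_factorial (Nat.mul_div_le m 2)
    have h3 := val_le_of_dvd (p := 2) m.factorial_ne_zero h2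
    have h4 : (2 * (m / 4))! ∣ (m / 2)! := Nat.factorial_dvd_factorial (by omega)
    have h5 := val_le_of_dvd (p := 2) (Nat.factorial_ne_zero _) h4
    simp only [Nat.factorization_def _ Nat.prime_two, padicValNat_factorial_mul] at h3 h5 ⊢
    omega
  omega

theorem twoPow_ge (m : ℕ) (hm : 3 ≤ m) : 2 * m + 1 ≤ 2 ^ m := by
  induction m, hm using Nat.le_induction with
  | base => norm_num
  | succ k _ ih => rw [pow_succ]; omega

theorem twoPow_gt (j : ℕ) (hj : 1 ≤ j) : 8 * j * (8 * j - 2) < 2 ^ (7 * j - 1) := by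
  induction j, hj using Nat.le_induction with
  | base => norm_num
  | succ k hk ih =>
    have h1 : 2 ^ (7 * (k + 1) - 1) = 2 ^ (7 * k - 1) * 128 := by
      rw [show 7 * (k + 1) - 1 = 7 * k - 1 + 7 by omega, pow_add]; norm_num
    obtain ⟨i, rfl⟩ : ∃ i, k = i + 1 := ⟨k - 1, by omega⟩
    rw [h1, show 8 * (i + 1 + 1) - 2 = 8 * i + 14 by omega]
    rw [show 8 * (i + 1) - 2 = 8 * i + 6 by omega] at ih
    nlinarith

theorem pow_mul_le_card {K : Subgroup (Perm α)} (hK : Large π 1 K) (h2 : 2 ∈ π) {p : ℕ}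
    (hpd : p ∣ Nat.card K) (hp : p.Prime) (hp2 : p ≠ 2) :
    2 ^ (((Fintype.card α)!).factorization 2 - 1) * p ≤ Nat.card K := by
  refine Nat.le_of_dvd Nat.card_pos (((Nat.coprime_primes Nat.prime_two hp).2 hp2.symm).pow_left _
    |>.mul_dvd_of_dvd_of_dvd ?_ hpd)
  refine (pow_dvd_pow 2 ?_).trans (Nat.ordProj_dvd (Nat.card K) 2)
  have := hK.2 2 Nat.prime_two h2
  simp at this
  omega

/-- Degree `p`, prime divisors `2`, `p`: only `p ≤ 3`. -/
theorem not_large_prime_degree {K : Subgroup (Perm α)} {p : ℕ} (hp : p.Prime) (hp5 : 5 ≤ p)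
    (hα : Fintype.card α = p) (hK : Large π 1 K) (h2 : 2 ∈ π) (hpπ : p ∈ π)
    (hKA : K ≤ alternatingGroup α) [IsPretransitive K α]
    (honly : ∀ q : ℕ, q.Prime → q ≤ p → q ∈ π → q = 2 ∨ q = p) : False := by
  haveI := Fact.mk hp
  have hsolv : Group.IsSolvable K := CfsgLib.Chars.isSolvable_of_primeFactors_pair 2 p
    fun q hq hd => honly q hq ((hq.dvd_factorial).1
      (hα ▸ natCard_perm (α := α) ▸ hd.trans K.card_subgroup_dvd_card)) (hK.1 q hq hd)
  haveI : Nonempty α := Fintype.card_pos_iff.1 (by omega)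
  have hb := pow_mul_le_card hK h2 (hα ▸ card_dvd_of_transitive K) hp (by omega)
  obtain ⟨hle, h5⟩ := solvable_prime_degree (G := K) hα hsolv
  have hodd : p % 2 = 1 := (hp.eq_two_or_odd).resolve_left (by omega)
  have hv := two_val_bound (p / 2)
  have hv' := val_le_of_dvd (p := 2) (Nat.factorial_ne_zero (Fintype.card α))
    (Nat.factorial_dvd_factorial (show 2 * (p / 2) ≤ Fintype.card α by omega))
  rcases eq_or_ne p 5 with rfl | hne
  · refine h5 rfl (le_trans ?_ hb) hKA
    refine le_trans (by norm_num) (Nat.mul_le_mul_right 5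
      (Nat.pow_le_pow_right (show 2 > 0 by norm_num) (show 2 ≤ _ by omega)))
  · have h7 : 7 ≤ p := by
      rcases Nat.lt_or_ge p 7 with h | h
      · interval_cases p <;> simp_all
      · exact h
    have h1 := twoPow_ge (p / 2) (by omega)
    have h2' : 2 ^ (p / 2) ≤ 2 ^ (((Fintype.card α)!).factorization 2 - 1) :=
      Nat.pow_le_pow_right (by norm_num) (by omega)
    have h3 : 2 ^ (p / 2) * p ≤ p * (p - 1) :=
      (Nat.mul_le_mul_right p h2').trans (hb.trans hle)
    rw [mul_comm p] at h3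
    have := Nat.le_of_mul_le_mul_right h3 hp.pos
    omega

/-- Degree `2 ^ k`, prime divisors `2`, `2 ^ k - 1`. -/
theorem not_large_mersenne {K : Subgroup (Perm α)} {p : ℕ} (hp : p.Prime) (h8 : 8 ∣ p + 1)
    (hα : Fintype.card α = p + 1) (hK : Large π 1 K) (h2 : 2 ∈ π) (hpπ : p ∈ π)
    [IsPretransitive K α] {g : Perm α} (hgK : g ∈ K) (hgc : g.IsCycle)
    (hgp : g.support.card = p)
    (honly : ∀ q : ℕ, q.Prime → q ≤ p + 1 → q ∈ π → q = 2 ∨ q = p) : False := by
  haveI := Fact.mk hp
  obtain ⟨i, hi⟩ := Finset.card_eq_one.1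
    (show g.supportᶜ.card = 1 by rw [Finset.card_compl, hgp, hα]; omega)
  have hgi : g i = i := Perm.notMem_support.1 (Finset.mem_compl.1 (by rw [hi]; simp))
  have hmov : ∀ x, x ≠ i → g x ≠ x := fun x hx h => hx (by
    have : x ∈ g.supportᶜ := Finset.mem_compl.2 (Perm.notMem_support.2 h)
    rwa [hi, Finset.mem_singleton] at this)
  have hKi : ∀ s ∈ stabilizer K i, ∀ x : α, (s : Perm α) x ≠ i ↔ x ≠ i := by
    intro s hs x
    have hsi : (s : Perm α) i = i := hs
    constructor
    · rintro h rfl; exact h hsi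
    · exact fun h e => h ((s : Perm α).injective (e.trans hsi.symm))
  let res : stabilizer K i →* Perm {x // x ≠ i} :=
    { toFun := fun s => ((s : K) : Perm α).subtypePerm (hKi _ s.2)
      map_one' := Equiv.ext fun _ => rfl
      map_mul' := fun _ _ => Equiv.ext fun _ => rfl }
  have hres : Function.Injective res := fun s t h => Subtype.ext (Subtype.ext (Equiv.ext fun x => by
    rcases eq_or_ne x i with rfl | hx
    · exact (s.2 : ((s : K) : Perm α) x = x).trans (t.2 : ((t : K) : Perm α) x = x).symm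
    · exact congrArg Subtype.val (DFunLike.congr_fun h ⟨x, hx⟩)))
  have hcardx : Fintype.card {x // x ≠ i} = p := by simp [Fintype.card_subtype_compl, hα]
  let R := res.range
  haveI : IsPretransitive R {x // x ≠ i} := by
    refine ⟨fun x y => ?_⟩
    obtain ⟨z, hz⟩ := hgc.exists_zpow_eq (hmov _ x.2) (hmov _ y.2)
    have hz' : (⟨g, hgK⟩ : K) ^ z ∈ stabilizer K i := by
      show ((⟨g, hgK⟩ : K) ^ z) • i = i
      simp [Subgroup.smul_def, Perm.zpow_apply_eq_self_of_apply_eq_self hgi]
    refine ⟨⟨res ⟨_, hz'⟩, MonoidHom.mem_range.2 ⟨_, rfl⟩⟩, Subtype.ext ?_⟩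
    simpa [res, Subgroup.smul_def] using hz
  have hprime : ∀ q : ℕ, q.Prime → q ∣ Nat.card K → q = 2 ∨ q = p := fun q hq hd =>
    honly q hq ((hq.dvd_factorial).1 (hα ▸ natCard_perm (α := α) ▸
      hd.trans K.card_subgroup_dvd_card)) (hK.1 q hq hd)
  have hRcard : Nat.card R = Nat.card (stabilizer K i) :=
    (Nat.card_congr (MonoidHom.ofInjective hres).toEquiv).symm
  have hsolv : Group.IsSolvable R := CfsgLib.Chars.isSolvable_of_primeFactors_pair 2 p
    fun q hq hd => hprime q hq ((hRcard ▸ hd).trans (Subgroup.card_subgroup_dvd_card _))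
  obtain ⟨hle, -⟩ := solvable_prime_degree (G := R) hcardx hsolv
  have hKcard : Nat.card K = (p + 1) * Nat.card R := by
    rw [hRcard, ← (stabilizer K i).index_mul_card, index_stabilizer_of_transitive,
      Nat.card_eq_fintype_card, hα]
  have hpd : p ∣ Nat.card K := by
    have := Subgroup.orderOf_dvd_natCard K hgK
    rwa [hgc.orderOf, hgp] at this
  have hp2 : p ≠ 2 := by rintro rfl; omega
  have hb := pow_mul_le_card hK h2 hpd hp hp2
  obtain ⟨j, hj⟩ := h8
  have hv := two_val_bound (4 * j)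
  rw [show 2 * (4 * j) = 8 * j by ring, ← hj, ← hα] at hv
  have h1 := twoPow_gt j (by omega)
  have h2' : 2 ^ (7 * j - 1) ≤ 2 ^ (((Fintype.card α)!).factorization 2 - 1) :=
    Nat.pow_le_pow_right (by norm_num) (by omega)
  have h3 : 2 ^ (7 * j - 1) * p ≤ (p + 1) * (p * (p - 1)) :=
    (Nat.mul_le_mul_right p h2').trans (hb.trans (hKcard ▸ Nat.mul_le_mul_left _ hle))
  rw [show (p + 1) * (p * (p - 1)) = (p + 1) * (p - 1) * p by ring] at h3
  have h4 := Nat.le_of_mul_le_mul_right h3 hp.pos
  rw [hj, show p - 1 = 8 * j - 2 by omega] at h4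
  omega

/-- A primitive large `π`-group for two primes forces `π` to contain all relevant primes. -/
theorem all_of_primitive {K : Subgroup (Perm α)} (hK : Large π 1 K)
    (hKA : 2 ∈ π → K ≤ alternatingGroup α) (hG : IsPreprimitive K α)
    (h2 : ∃ r s : ℕ, r.Prime ∧ s.Prime ∧ r ≠ s ∧ r ∈ π ∧ s ∈ π ∧
      r ≤ Fintype.card α ∧ s ≤ Fintype.card α) :
    ∀ q : ℕ, q.Prime → q ≤ Fintype.card α → q ∈ π := by
  set n := Fintype.card α with hn
  obtain ⟨r, s, hr, hs, hrs, hrπ, hsπ, hrn, hsn⟩ := h2
  have hodd : ∃ p : ℕ, p.Prime ∧ p ≠ 2 ∧ p ∈ π ∧ p ≤ n := by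
    rcases eq_or_ne r 2 with rfl | h
    · exact ⟨s, hs, fun h => hrs h.symm, hsπ, hsn⟩
    · exact ⟨r, hr, h, hrπ, hrn⟩
  haveI : Nonempty α := Fintype.card_pos_iff.1 (by have := hr.two_le; omega)
  intro q hq hqn
  by_cases hsmall : ∃ p : ℕ, p.Prime ∧ p ≠ 2 ∧ p ∈ π ∧ p + 3 ≤ n
  · obtain ⟨p, hp, hp2, hpπ, hp3⟩ := hsmall
    haveI := Fact.mk hp
    obtain ⟨g, hg, hgc, hgs⟩ := exists_cycle_mem hK hp hpπ (by omega) (Or.inl hp2)
    have hA := CfsgLib.Perm.alternatingGroup_le_of_prime_cycle hG hp3 hgc hgs hg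
    haveI : Nontrivial α := Fintype.one_lt_card_iff_nontrivial.1 (by have := hp.two_le; omega)
    have h2A : 2 * Nat.card (alternatingGroup α) = n ! := by
      rw [← natCard_perm, Nat.card_eq_fintype_card, Nat.card_eq_fintype_card]
      exact two_mul_card_alternatingGroup
    refine hK.1 q hq (Dvd.dvd.trans ?_ (Subgroup.card_dvd_of_le hA))
    rcases eq_or_ne q 2 with rfl | hq2
    · have h4 : 4 ∣ n ! :=
        (show 4 ∣ (4 : ℕ)! by decide).trans (Nat.factorial_dvd_factorial (by have := hp.two_le; omega))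
      omega
    · exact ((hq.dvd_mul).1 (h2A ▸ Nat.dvd_factorial hq.pos hqn)).resolve_left fun h =>
        hq2 ((Nat.prime_dvd_prime_iff_eq hq Nat.prime_two).1 h)
  push Not at hsmall
  obtain ⟨p₀, hp₀, hp₀2, hp₀π, hp₀n⟩ := hodd
  have hp₀3 := hsmall p₀ hp₀ hp₀2 hp₀π
  have hodd0 : p₀ % 2 = 1 := hp₀.eq_two_or_odd.resolve_left hp₀2
  have hp₀5 := hp₀.two_le
  rcases Nat.mod_two_eq_zero_or_one n with hev | hod
  · -- `n` even
    have hpn : p₀ + 1 = n := by omega
    have honly : ∀ t : ℕ, t.Prime → t ≤ p₀ + 1 → t ∈ π → t = 2 ∨ t = p₀ := by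
      intro t ht htn htπ
      rcases eq_or_ne t 2 with h | h
      · exact Or.inl h
      · have h1 := hsmall t ht h htπ
        have h3 : t % 2 = 1 := ht.eq_two_or_odd.resolve_left h
        exact Or.inr (by omega)
    have h2π : 2 ∈ π := by
      rcases honly r hr (by omega) hrπ with rfl | rfl
      · exact hrπ
      · rcases honly s hs (by omega) hsπ with rfl | rfl
        · exact hsπ
        · exact absurd rfl hrs
    rcases Nat.lt_or_ge n 5 with h5 | h5
    · have : q = 2 ∨ q = p₀ := by
        have : p₀ = 3 := by omega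
        have := hq.two_le
        have h4 : q ≠ 4 := by rintro rfl; norm_num at hq
        omega
      rcases this with rfl | rfl
      · exact h2π
      · exact hp₀π
    exfalso
    -- `n` is a power of two
    obtain ⟨k, hk⟩ : ∃ k, n = 2 ^ k := by
      refine ⟨n.primeFactorsList.length, Nat.eq_prime_pow_of_unique_prime_dvd (by omega) ?_⟩
      intro t ht htn
      have htπ := hK.1 t ht (htn.trans (card_dvd_of_transitive K))
      rcases honly t ht (by have := Nat.le_of_dvd (by omega) htn; omega) htπ with h | h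
      · exact h
      · exfalso
        have := Nat.le_of_dvd (by omega) ((Nat.dvd_add_right (dvd_refl p₀)).1
          (show p₀ ∣ p₀ + 1 by rw [hpn]; exact h ▸ htn))
        omega
    obtain ⟨g, hg, hgc, hgs⟩ := exists_cycle_mem hK hp₀ hp₀π hp₀n (Or.inl hp₀2)
    refine not_large_mersenne hp₀ ?_ hpn.symm hK h2π hp₀π hg hgc hgs honly
    rw [hpn, hk]
    refine pow_dvd_pow 2 (show 3 ≤ k from ?_)
    by_contra h
    have := Nat.pow_le_pow_right (show 2 > 0 by norm_num) (show k ≤ 2 by omega)
    omega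
  · -- `n` odd
    by_cases htwin : ∃ p : ℕ, p.Prime ∧ p ≠ 2 ∧ p ∈ π ∧ p + 2 = n
    · obtain ⟨p, hp, hp2, hpπ, hpn⟩ := htwin
      have hp3 : 3 ≤ p := by have := hp.two_le; omega
      obtain ⟨g, hg, hgc, hgs⟩ := exists_cycle_mem hK hp hpπ (by omega) (Or.inl hp2)
      have h3 := descFactorial_dvd_of_three (three_pretransitive hG hp hpn hp3 hgc hgs hg) (by omega)
      rw [← hn] at h3
      have hfac : ∀ t : ℕ, t.Prime → t ≠ 2 → (t ∣ n ∨ t ∣ n - 1) → t = n := by
        intro t ht ht2 hd
        have htπ : t ∈ π := hK.1 t ht ((hd.elim (fun h => (h.mul_right (n - 1)).mul_right (n - 2))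
          (fun h => (h.mul_left n).mul_right (n - 2))).trans h3)
        have h1 := hsmall t ht ht2 htπ
        have h2 : t % 2 = 1 := ht.eq_two_or_odd.resolve_left ht2
        rcases hd with hd | hd
        · have := Nat.le_of_dvd (by omega) hd
          by_contra hne
          have h4 := Nat.le_of_dvd (by omega) (Nat.dvd_sub hd (dvd_refl t))
          omega
        · exfalso
          have := Nat.le_of_dvd (by omega) hd
          have h4 := Nat.le_of_dvd (by omega) (Nat.dvd_sub hd (dvd_refl t))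
          omega
      have hnpr : n.Prime := by
        obtain ⟨t, ht, htn⟩ := Nat.exists_prime_and_dvd (show n ≠ 1 by omega)
        have ht2 : t ≠ 2 := by rintro rfl; omega
        exact hfac t ht ht2 (Or.inl htn) ▸ ht
      have hnπ : n ∈ π := hK.1 n hnpr ((((dvd_refl n).mul_right _).mul_right _).trans h3)
      have h2π : 2 ∈ π := hK.1 2 Nat.prime_two
        ((((show 2 ∣ n - 1 by omega).mul_left _).mul_right _).trans h3)
      obtain ⟨x, hx⟩ : ∃ x, n - 1 = 2 ^ x := by
        refine ⟨(n - 1).primeFactorsList.length, Nat.eq_prime_pow_of_unique_prime_dvd (by omega) ?_⟩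
        intro t ht htn
        by_contra ht2
        have := hfac t ht ht2 (Or.inr htn)
        have := Nat.le_of_dvd (by omega) htn
        omega
      have h3n : ¬ 3 ∣ n - 1 := by
        rw [hx]
        exact fun h => absurd (Nat.prime_three.dvd_of_dvd_pow h) (by norm_num)
      have h5 : n = 5 := by
        rcases (show 3 ∣ n ∨ 3 ∣ p by
          rcases (show (n - 1) % 3 = 1 ∨ (n - 1) % 3 = 2 by omega) with h | h <;> omega) with h | h
        · have := (Nat.prime_dvd_prime_iff_eq Nat.prime_three hnpr).1 h; omega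
        · have := (Nat.prime_dvd_prime_iff_eq Nat.prime_three hp).1 h; omega
      have : q = 2 ∨ q = p ∨ q = n := by
        have := hq.two_le
        have h4 : q ≠ 4 := by rintro rfl; norm_num at hq
        omega
      rcases this with rfl | rfl | rfl
      · exact h2π
      · exact hpπ
      · exact hnπ
    push Not at htwin
    have hpn : p₀ = n := by
      have := htwin p₀ hp₀ hp₀2 hp₀π
      omega
    have honly : ∀ t : ℕ, t.Prime → t ≤ p₀ → t ∈ π → t = 2 ∨ t = p₀ := by
      intro t ht htn htπ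
      rcases eq_or_ne t 2 with h | h
      · exact Or.inl h
      · have h1 := hsmall t ht h htπ
        have h2 := htwin t ht h htπ
        have h3 : t % 2 = 1 := ht.eq_two_or_odd.resolve_left h
        exact Or.inr (by omega)
    have h2π : 2 ∈ π := by
      rcases honly r hr (by omega) hrπ with rfl | rfl
      · exact hrπ
      · rcases honly s hs (by omega) hsπ with rfl | rfl
        · exact hsπ
        · exact absurd rfl hrs
    rcases Nat.lt_or_ge n 5 with h5 | h5
    · have : q = 2 ∨ q = p₀ := by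
        have := hq.two_le
        omega
      rcases this with rfl | rfl
      · exact h2π
      · exact hp₀π
    exact (not_large_prime_degree hp₀ (by omega) hpn.symm hK h2π hp₀π (hKA h2π) honly).elim

/-- A transitive, imprimitive group respects a map with fibres of equal size. -/
theorem exists_fibres {K : Subgroup (Perm α)} [IsPretransitive K α] (hnp : ¬ IsPreprimitive K α) :
    ∃ (a b : ℕ) (f : α → Fin b), 2 ≤ a ∧ 2 ≤ b ∧ a * b = Fintype.card α ∧ Function.Surjective f ∧
      K ≤ respecting f ∧ ∀ i, Fintype.card {x // f x = i} = a := by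
  classical
  obtain ⟨B, hB, hB1, hB2⟩ : ∃ B : Set α, IsBlock K B ∧ ¬ B.Subsingleton ∧ B ≠ Set.univ := by
    by_contra hne
    push Not at hne
    exact hnp { isTrivialBlock_of_isBlock := fun {B} hB => or_iff_not_imp_left.2 fun h => hne B hB (Set.not_subsingleton_iff.1 h) }
  obtain ⟨x₀, hx₀, y₀, hy₀, hxy⟩ := Set.not_subsingleton_iff.1 hB1
  let S : Setoid α :=
    { r := fun x y => ∀ σ : K, σ • x ∈ B ↔ σ • y ∈ B
      iseqv := ⟨fun _ _ => Iff.rfl, fun h σ => (h σ).symm, fun h h' σ => (h σ).trans (h' σ)⟩ }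
  have hrel : ∀ σ : K, ∀ x y, S.r x y → S.r (σ • x) (σ • y) := fun σ x y h τ => by
    rw [smul_smul, smul_smul]; exact h _
  have hcl : ∀ x, S.r x x₀ ↔ x ∈ B := by
    intro x
    refine ⟨fun h => by simpa using (h 1).2 (by simpa using hx₀), fun hx σ => ?_⟩
    have key : ∀ u ∈ B, ∀ v ∈ B, σ • u ∈ B → σ • v ∈ B := by
      intro u hu v hv hσu
      by_cases he : σ • B = (1 : K) • B
      · rw [← one_smul K B, ← he]
        exact Set.smul_mem_smul_set hv
      · exfalso
        exact Set.disjoint_left.1 (hB he) (Set.smul_mem_smul_set hu) (by rwa [one_smul])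
    exact ⟨key x hx x₀ hx₀, key x₀ hx₀ x hx⟩
  let e := Fintype.equivFin (Quotient S)
  let f : α → Fin (Fintype.card (Quotient S)) := fun x => e (Quotient.mk S x)
  have hf : Function.Surjective f := e.surjective.comp Quotient.mk_surjective
  have hfeq : ∀ x y, f x = f y ↔ S.r x y := fun x y => e.injective.eq_iff.trans Quotient.eq
  have hKf : K ≤ respecting f := fun σ hσ x y => by
    rw [hfeq, hfeq]
    refine ⟨fun h => ?_, hrel ⟨σ, hσ⟩ x y⟩
    simpa [Subgroup.smul_def] using hrel (⟨σ, hσ⟩ : K)⁻¹ _ _ h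
  have hfib : ∀ i, Fintype.card {x // f x = i} = Fintype.card {x // x ∈ B} := by
    intro i
    obtain ⟨z, rfl⟩ := hf i
    obtain ⟨σ, hσ⟩ := exists_smul_eq K x₀ z
    refine (Fintype.card_congr ?_).symm
    refine (σ.1 : Perm α).subtypeEquiv fun x => ?_
    rw [← hcl, ← hfeq, ← hσ]
    exact (hKf σ.2 x x₀).symm
  refine ⟨_, _, f, ?_, ?_, ?_, hf, hKf, hfib⟩
  · exact Fintype.one_lt_card_iff.2 ⟨⟨x₀, hx₀⟩, ⟨y₀, hy₀⟩, fun h => hxy (congrArg Subtype.val h)⟩
  · obtain ⟨z, hz⟩ := (Set.ne_univ_iff_exists_notMem B).1 hB2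
    refine Fintype.one_lt_card_iff.2 ⟨Quotient.mk S x₀, Quotient.mk S z, fun h => hz ?_⟩
    exact (hcl z).1 (Setoid.symm (Quotient.exact h))
  · rw [← Fintype.card_congr (Equiv.sigmaFiberEquiv f), Fintype.card_sigma]
    simp [hfib, mul_comm]

end CfsgLib.HallSym
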